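import Cfsg.Agent.Lib.CITUse.CN
import Cfsg.Agent.Lib.CITQuot.Basic
import Cfsg.Agent.Lib.CIT.Structure
import Cfsg.Agent.Lib.Solvable.CN

/-!
Insoluble groups with nilpotent centralisers: the soluble radical is a two-group, and when it is trivial there is a
simple socle which is everything in the trivial intersection case.
-/

set_option autoImplicit false
set_option linter.unusedSectionVars false
set_option linter.style.haveILetI false

namespace CfsgLib.CITExt

open Subgroup Cfsg
open CfsgLib.CN (commute_of_mem_centralizer)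

universe u

variable {G : Type u} [Group G] [Finite G]

theorem coprime_of_pGroup {p q : ℕ} (hp : p.Prime) (hq : q.Prime) (hpq : p ≠ q) {P Q : Subgroup G} (hP : IsPGroup p P)
    (hQ : IsPGroup q Q) {x y : G} (hx : x ∈ P) (hy : y ∈ Q) : (orderOf x).Coprime (orderOf y) := by
  obtain ⟨i, hi⟩ := hP ⟨x, hx⟩
  obtain ⟨j, hj⟩ := hQ ⟨y, hy⟩
  exact (((Nat.coprime_primes hp hq).mpr hpq).pow i j).of_dvd
    (orderOf_dvd_of_pow_eq_one (by simpa using congrArg Subtype.val hi))
    (orderOf_dvd_of_pow_eq_one (by simpa using congrArg Subtype.val hj))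

/-- An element of coprime order commuting with a non-trivial central element of a p-group centralises it. -/
theorem centralises_of_commute (hCN : IsCNGroup G) {p : ℕ} [Fact p.Prime] (O : Subgroup G) (hO : IsPGroup p O)
    {y z : G} (hy : (orderOf y).Coprime p) (hz : z ≠ 1) (hzc : ∀ o ∈ O, o * z = z * o) (hyz : y * z = z * y) :
    ∀ o ∈ O, y * o = o * y := fun o ho =>
  commute_of_mem_centralizer hCN hz hyz (hzc o ho) (CN.coprime_orderOf_of_pGroup hO hy ho)

theorem exists_central {p : ℕ} [Fact p.Prime] {O : Subgroup G} (hO : IsPGroup p O) (h0 : O ≠ ⊥) :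
    ∃ z ∈ O, z ≠ 1 ∧ ∀ o ∈ O, o * z = z * o := by
  haveI : Nontrivial O := (nontrivial_iff_ne_bot O).mpr h0
  haveI := hO.center_nontrivial
  obtain ⟨z, hz⟩ := exists_ne (1 : center O)
  exact ⟨(z : O), (z : O).2, fun e => hz (Subtype.ext (Subtype.ext e)),
    fun o ho => congrArg Subtype.val (mem_center_iff.mp z.2 ⟨o, ho⟩)⟩

theorem centralizer_nilpotent (hCN : IsCNGroup G) {O : Subgroup G} (h0 : O ≠ ⊥) :
    Group.IsNilpotent (centralizer (O : Set G)) := by
  obtain ⟨z, hz, hz1⟩ := O.ne_bot_iff_exists_ne_one.mp h0 |> fun ⟨w, hw⟩ =>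
    (⟨(w : G), w.2, fun e => hw (Subtype.ext e)⟩ : ∃ z ∈ O, z ≠ 1)
  exact CN.isNilpotent_of_le (centralizer_le (Set.singleton_subset_iff.mpr hz)) (hCN z hz1)

/-- A Sylow two-subgroup inside a nilpotent normal subgroup makes the group soluble. -/
theorem solvable_of_sylow_le (C : Subgroup G) [C.Normal] (hC : Group.IsNilpotent C) (S : Sylow 2 G)
    (hS : (S : Subgroup G) ≤ C) : Group.IsSolvable G := by
  haveI : Fact (Nat.Prime 2) := ⟨Nat.prime_two⟩
  haveI := hC
  haveI : Group.IsSolvable C := inferInstance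
  haveI : Group.IsSolvable (G ⧸ C) := by
    refine CITQuot.solvable_of_odd (Nat.odd_iff.mpr ?_)
    have h1 : ¬ 2 ∣ (S : Subgroup G).index := S.not_dvd_index
    have h2 := index_dvd_of_le hS
    rw [← index_eq_card C]
    by_contra h
    exact h1 ((Nat.dvd_of_mod_eq_zero (by omega : C.index % 2 = 0)).trans h2)
  exact (Group.isSolvable_iff_subgroup_quotient C).mpr ⟨inferInstance, inferInstance⟩

/-- There is no normal subgroup of odd prime power order. -/
theorem no_odd_core (hCN : IsCNGroup G) (hns : ¬ Group.IsSolvable G) {p : ℕ} [hp : Fact p.Prime] (hp2 : p ≠ 2)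
    (O : Subgroup G) [O.Normal] (hO : IsPGroup p O) : O = ⊥ := by
  haveI : Fact (Nat.Prime 2) := ⟨Nat.prime_two⟩
  by_contra h0
  have hCnil := centralizer_nilpotent hCN h0
  set C := centralizer (O : Set G) with hCdef
  haveI : C.Normal := inferInstance
  by_cases h2 : 2 ∣ Nat.card C
  · haveI := hCnil
    obtain ⟨S₀⟩ : Nonempty (Sylow 2 C) := inferInstance
    have hS₀n : (S₀ : Subgroup C).Normal := (Group.isNilpotent_of_finite_tfae (G := C)).out 0 3 rfl rfl |>.mp hCnil 2
      inferInstance _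
    haveI := S₀.characteristic_of_normal hS₀n
    set T := (S₀ : Subgroup C).map C.subtype with hT
    haveI hTn : T.Normal := inferInstance
    have hT0 : T ≠ ⊥ := by
      rw [hT, ne_eq, map_eq_bot_iff_of_injective _ C.subtype_injective]
      exact S₀.ne_bot_of_dvd_card h2
    obtain ⟨S⟩ : Nonempty (Sylow 2 G) := inferInstance
    have hTS : T ≤ (S : Subgroup G) := (S₀.2.map _).le_sylow_of_normal S
    haveI := S.2.isNilpotent
    haveI : Nontrivial (S : Subgroup G) := (nontrivial_iff_ne_bot _).mpr fun e => hT0 (eq_bot_iff.mpr (e ▸ hTS))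
    have hI := CfsgLib.inf_center_ne_bot_of_nilpotent (G := (S : Subgroup G)) (N := T.subgroupOf S) (by
      rw [ne_eq, subgroupOf_eq_bot, disjoint_iff, inf_eq_left.mpr hTS]
      exact hT0)
    obtain ⟨⟨z, hzS⟩, hz, hz1⟩ : ∃ z : (S : Subgroup G), z ∈ T.subgroupOf S ⊓ center _ ∧ z ≠ 1 := by
      obtain ⟨w, hw⟩ := ne_bot_iff_exists_ne_one.mp hI
      exact ⟨w, w.2, fun e => hw (Subtype.ext e)⟩
    have hzT : z ∈ T := (Subgroup.mem_inf.mp hz).1
    have hzO : ∀ o ∈ O, o * z = z * o := fun o ho => (map_subtype_le _ hzT : z ∈ C) o ho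
    have hz0 : z ≠ 1 := fun e => hz1 (Subtype.ext e)
    refine hns (solvable_of_sylow_le C hCnil S fun y hy o ho => ?_)
    have hyz : y * z = z * y := congrArg Subtype.val (mem_center_iff.mp (Subgroup.mem_inf.mp hz).2 ⟨y, hy⟩)
    exact (centralises_of_commute hCN O hO (by
      obtain ⟨k, hk⟩ := S.2 ⟨y, hy⟩
      exact (((Nat.coprime_primes Nat.prime_two hp.out).mpr (Ne.symm hp2)).pow_left k).coprime_dvd_left
        (orderOf_dvd_of_pow_eq_one (by simpa using congrArg Subtype.val hk))) hz0 hzO hyz o ho).symm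
  · obtain ⟨z₀, hz₀, hz₀1, hz₀c⟩ := exists_central hO h0
    let Z : Subgroup G := O ⊓ centralizer (O : Set G)
    haveI : Z.Normal := inferInstance
    have hZ0 : Z ≠ ⊥ := fun e => hz₀1 (mem_bot.mp (e ▸ (Subgroup.mem_inf.mpr ⟨hz₀, fun o ho => hz₀c o ho⟩ : z₀ ∈ Z)))
    set D := centralizer (Z : Set G) with hD
    haveI : D.Normal := inferInstance
    have hDnil := centralizer_nilpotent hCN hZ0
    obtain ⟨t, ht⟩ := exists_prime_orderOf_dvd_card' 2 (CITQuot.two_dvd_card hns)
    have key : ∀ s : G, orderOf s = 2 → ∀ v ∈ Z, s * v = v * s → v = 1 := by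
      intro s hs v hv hsv
      by_contra hv1
      refine h2 (hs ▸ Subgroup.orderOf_dvd_natCard C fun o ho => ?_)
      exact (centralises_of_commute hCN O hO (hs ▸ (Nat.coprime_primes Nat.prime_two hp.out).mpr (Ne.symm hp2)) hv1
        (fun o ho => (Subgroup.mem_inf.mp hv).2 o ho) hsv o ho).symm
    have hDodd : Odd (Nat.card D) := by
      rcases Nat.even_or_odd (Nat.card D) with h | h
      · exfalso
        obtain ⟨s, hs⟩ := exists_prime_orderOf_dvd_card' (G := D) 2 h.two_dvd
        rw [← Subgroup.orderOf_coe] at hs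
        exact hz₀1 (key s hs z₀ (Subgroup.mem_inf.mpr ⟨hz₀, fun o ho => hz₀c o ho⟩)
          (s.2 z₀ (Subgroup.mem_inf.mpr ⟨hz₀, fun o ho => hz₀c o ho⟩)).symm)
      · exact h
    letI := Fintype.ofFinite G
    have inv : ∀ s : G, orderOf s = 2 → ∀ v ∈ Z, s * v * s⁻¹ = v⁻¹ := fun s hs =>
      BSW.invert_of_fpf hs (by rw [normalizer_eq_top]; trivial) fun v hv h => key s hs v hv (mul_inv_eq_iff_eq_mul.mp h)
    have hs2 : ∀ s : G, orderOf s = 2 → s⁻¹ = s := fun s hs =>
      inv_eq_of_mul_eq_one_right (by rw [← sq, ← hs, pow_orderOf_eq_one])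
    have hcover : ∀ g : G, ∃ d ∈ D, d⁻¹ * g ∈ centralizer ({t} : Set G) := by
      intro g
      have hgt : orderOf (g * t * g⁻¹) = 2 := by rw [← MulAut.conj_apply, MulEquiv.orderOf_eq, ht]
      set c := g * t * g⁻¹ * t with hc
      have hcD : c ∈ D := fun v hv => by
        have h1 := inv t ht v hv
        have h2 := inv _ hgt v⁻¹ (inv_mem hv)
        rw [inv_inv] at h2
        have h3 : c * v * c⁻¹ = v := by
          calc c * v * c⁻¹ = (g * t * g⁻¹) * (t * v * t⁻¹) * (g * t * g⁻¹)⁻¹ := by rw [hc]; group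
            _ = v := by rw [h1, h2]
        exact (mul_inv_eq_iff_eq_mul.mp h3).symm
      obtain ⟨k, hk⟩ := hDodd
      have hck : c ^ (2 * k + 1) = 1 := by
        rw [← hk]
        exact congrArg Subtype.val (pow_card_eq_one' (G := D) (x := ⟨c, hcD⟩))
      have htc : t * c * t⁻¹ = c⁻¹ := by
        rw [hc, _root_.mul_inv_rev, hs2 _ hgt, hs2 t ht]
        calc t * (g * t * g⁻¹ * t) * t = t * (g * t * g⁻¹) * (t * t) := by group
          _ = t * (g * t * g⁻¹) := by rw [show t * t = 1 by rw [← sq, ← ht, pow_orderOf_eq_one], mul_one]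
      refine ⟨c ^ (k + 1), pow_mem hcD _, mem_centralizer_singleton_iff.mpr ?_⟩
      have h4 : c ^ (k + 1) * t * (c ^ (k + 1))⁻¹ = g * t * g⁻¹ := by
        have h : t * c ^ (k + 1) * t⁻¹ = (c ^ (k + 1))⁻¹ := by rw [← conj_pow, htc, inv_pow]
        calc c ^ (k + 1) * t * (c ^ (k + 1))⁻¹ = c ^ (k + 1) * t * (t * c ^ (k + 1) * t⁻¹) := by rw [h]
          _ = c ^ (k + 1) * (t * t) * c ^ (k + 1) * t⁻¹ := by group
          _ = c ^ (2 * k + 1) * c * t⁻¹ := by
            rw [show t * t = 1 by rw [← sq, ← ht, pow_orderOf_eq_one], mul_one, ← pow_add, ← pow_succ]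
            congr 2
            omega
          _ = g * t * g⁻¹ := by rw [hck, one_mul, hc]; group
      calc (c ^ (k + 1))⁻¹ * g * t = (c ^ (k + 1))⁻¹ * (g * t * g⁻¹) * g := by group
        _ = t * ((c ^ (k + 1))⁻¹ * g) := by rw [← h4]; group
    haveI := hDnil
    haveI := hCN t (fun e => by rw [e, orderOf_one] at ht; omega)
    haveI : Group.IsSolvable (G ⧸ D) := by
      refine Group.isSolvable_of_surjective (f := (QuotientGroup.mk' D).comp (centralizer ({t} : Set G)).subtype)
        fun y => ?_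
      obtain ⟨g, rfl⟩ := QuotientGroup.mk'_surjective D y
      obtain ⟨d, hd, hdg⟩ := hcover g
      refine ⟨⟨_, hdg⟩, ?_⟩
      show QuotientGroup.mk' D (d⁻¹ * g) = QuotientGroup.mk' D g
      rw [map_mul, QuotientGroup.mk'_apply, (QuotientGroup.eq_one_iff _).mpr (inv_mem hd), one_mul]
    exact hns ((Group.isSolvable_iff_subgroup_quotient D).mpr ⟨inferInstance, inferInstance⟩)

/-- A group with a non-trivial two-core has two-group involution centralisers. -/
theorem cit_of_core (hCN : IsCNGroup G) (hns : ¬ Group.IsSolvable G) (h2 : pCore 2 G ≠ ⊥) : CIT.IsCIT G := by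
  haveI : Fact (Nat.Prime 2) := ⟨Nat.prime_two⟩
  intro t ht
  refine IsPGroup.of_card (Nat.eq_prime_pow_of_unique_prime_dvd Nat.card_pos.ne' fun {r} hr hd => ?_)
  by_contra hr2
  haveI := Fact.mk hr
  obtain ⟨⟨x, hx⟩, hxo⟩ := exists_prime_orderOf_dvd_card' (G := centralizer ({t} : Set G)) r hd
  rw [Subgroup.orderOf_mk] at hxo
  set O := pCore 2 G with hO
  have hO2 : IsPGroup 2 O := CfsgLib.isPGroup_pCore 2
  obtain ⟨z₀, hz₀, hz₀1, hz₀c⟩ := exists_central hO2 h2
  set Z : Subgroup G := O ⊓ centralizer (O : Set G) with hZdef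
  haveI : Z.Normal := inferInstance
  have hZ0 : Z ≠ ⊥ := fun e => hz₀1 (mem_bot.mp (e ▸ (Subgroup.mem_inf.mpr ⟨hz₀, fun o ho => hz₀c o ho⟩ : z₀ ∈ Z)))
  haveI : Nontrivial Z := (nontrivial_iff_ne_bot Z).mpr hZ0
  -- a fixed point of `t` in `Z`
  let φ : zpowers t →* MulAut Z := (MulAut.conjNormal).comp (zpowers t).subtype
  letI : MulAction (zpowers t) Z := MulAction.compHom Z φ
  obtain ⟨i, hi⟩ := IsPGroup.iff_card.mp (hO2.to_le (inf_le_left : Z ≤ O))
  have hi0 : i ≠ 0 := fun e => hZ0 (eq_bot_of_card_eq Z (by rw [hi, e, pow_zero]))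
  have ht2 : IsPGroup 2 (zpowers t) := IsPGroup.of_card (n := 1) (by rw [Nat.card_zpowers, ht, pow_one])
  obtain ⟨v, hv, hv1⟩ := ht2.exists_fixed_point_of_prime_dvd_card_of_fixed_point Z (hi ▸ dvd_pow_self 2 hi0)
    (a := (1 : Z)) (fun g => map_one (φ g))
  have hv1' : (v : G) ≠ 1 := fun e => hv1 (Subtype.ext e).symm
  have htv : t * v = (v : G) * t := by
    have h := congrArg Subtype.val (hv ⟨t, mem_zpowers t⟩)
    exact mul_inv_eq_iff_eq_mul.mp h
  have hxt : x * t = t * x := mem_centralizer_singleton_iff.mp hx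
  have hcop : (orderOf x).Coprime (orderOf (v : G)) := by
    obtain ⟨k, hk⟩ := hO2 ⟨v, (Subgroup.mem_inf.mp v.2).1⟩
    rw [hxo]
    exact (((Nat.coprime_primes hr Nat.prime_two).mpr hr2).pow_right k).coprime_dvd_right
      (orderOf_dvd_of_pow_eq_one (by simpa using congrArg Subtype.val hk))
  have hxv : x * v = (v : G) * x := commute_of_mem_centralizer hCN
    (fun e => by rw [e, orderOf_one] at ht; omega) hxt htv.symm hcop
  set C := centralizer (O : Set G) with hC
  have hxC : x ∈ C := fun o ho => (centralises_of_commute hCN O hO2 (hxo ▸ (Nat.coprime_primes hr Nat.prime_two).mpr hr2)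
    hv1' (fun o ho => (Subgroup.mem_inf.mp v.2).2 o ho) hxv o ho).symm
  haveI : C.Normal := inferInstance
  have hCnil := centralizer_nilpotent hCN h2
  haveI := hCnil
  obtain ⟨R⟩ : Nonempty (Sylow r C) := inferInstance
  have hRn : (R : Subgroup C).Normal := (Group.isNilpotent_of_finite_tfae (G := C)).out 0 3 rfl rfl |>.mp hCnil r
    inferInstance _
  haveI := R.characteristic_of_normal hRn
  have h0 := no_odd_core hCN hns hr2 ((R : Subgroup C).map C.subtype) (R.2.map _)
  rw [map_eq_bot_iff_of_injective _ C.subtype_injective] at h0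
  exact R.ne_bot_of_dvd_card (hxo ▸ C.orderOf_dvd_natCard hxC) h0

/-- Normal soluble subgroups are trivial once the two-core is. -/
theorem radical_bot (hCN : IsCNGroup G) (hns : ¬ Group.IsSolvable G) (h2 : pCore 2 G = ⊥) (N : Subgroup G)
    (hNn : N.Normal) (hN : Group.IsSolvable N) : N = ⊥ := by
  by_contra hbot
  obtain ⟨V, hVn, hVN, hV0, hmin⟩ := CfsgLib.exists_minimal_normal hbot
  haveI : Group.IsSolvable V :=
    Group.isSolvable_of_isSolvable_injective (f := Subgroup.inclusion hVN) (Subgroup.inclusion_injective _)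
  obtain ⟨-, p, hp, hVp⟩ := CfsgLib.minimal_normal_elementary hV0 inferInstance hmin
  have hVpg : IsPGroup p V := fun x => ⟨1, Subtype.ext (by simpa using hVp _ x.2)⟩
  haveI := Fact.mk hp
  by_cases hp2 : p = 2
  · subst hp2
    exact hV0 (eq_bot_iff.mpr ((le_sSup ⟨hVn, hVpg⟩ : V ≤ pCore 2 G).trans h2.le))
  · exact hV0 (no_odd_core hCN hns hp2 V hVpg)

/-- Two commuting subgroups are not both insoluble. -/
theorem not_both (hCN : IsCNGroup G) (A B : Subgroup G) (hA : A ≠ ⊥) (hB : ¬ Group.IsSolvable B)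
    (hc : ∀ a ∈ A, ∀ b ∈ B, Commute a b) : False := by
  obtain ⟨⟨a, ha⟩, ha1⟩ := ne_bot_iff_exists_ne_one.mp hA
  haveI := CN.isNilpotent_of_le (show B ≤ centralizer ({a} : Set G) from fun b hb =>
    mem_centralizer_singleton_iff.mpr (hc a ha b hb).eq.symm) (hCN a fun e => ha1 (Subtype.ext e))
  exact hB inferInstance

/-- The simple socle of a group with trivial soluble radical. -/
theorem exists_socle (hCN : IsCNGroup G) (hns : ¬ Group.IsSolvable G) (h2 : pCore 2 G = ⊥) :
    ∃ M : Subgroup G, M.Normal ∧ IsSimpleGroup M ∧ (∃ a b : M, a * b ≠ b * a) ∧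
      ∀ c : G, (∀ m ∈ M, c * m = m * c) → c = 1 := by
  classical
  haveI : Nontrivial G := by
    rw [← not_subsingleton_iff_nontrivial]
    exact fun h => hns inferInstance
  obtain ⟨M, hMn, -, hM0, hmin⟩ := CfsgLib.exists_minimal_normal (N := (⊤ : Subgroup G)) top_ne_bot
  have hrad := radical_bot hCN hns h2
  have hMs : ¬ Group.IsSolvable M := fun h => hM0 (hrad M hMn h)
  haveI : Nontrivial M := (Subgroup.nontrivial_iff_ne_bot M).mpr hM0
  haveI : IsSimpleGroup M := by
    refine ⟨fun T hT => ?_⟩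
    by_contra hcon
    push Not at hcon
    obtain ⟨S, hSn, hST, hS0, hSmin⟩ := CfsgLib.exists_minimal_normal (hn := hT) hcon.1
    set S' := S.map M.subtype with hS'
    have hS'M : S' ≤ M := Subgroup.map_subtype_le S
    by_cases hnor : S'.Normal
    · rcases hmin S' hnor hS'M with h | h
      · exact hS0 ((Subgroup.map_eq_bot_iff_of_injective S M.subtype_injective).mp h)
      · refine hcon.2 (top_le_iff.mp ((le_of_eq ?_).trans hST))
        refine Subgroup.map_injective M.subtype_injective ?_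
        rw [← hS', h, ← MonoidHom.range_eq_map, Subgroup.range_subtype]
    · have hSs : ¬ Group.IsSolvable S' := by
        intro hs
        obtain ⟨hSc, s, hs', hSexp⟩ := CfsgLib.minimal_normal_elementary hS0 (by
          haveI := hs
          exact Group.isSolvable_of_surjective
            (f := (Subgroup.equivMapOfInjective S M.subtype M.subtype_injective).symm.toMonoidHom)
            (MulEquiv.surjective _)) hSmin
        haveI := Fact.mk hs'
        have hSp : IsPGroup s S := fun x => ⟨1, Subtype.ext (by simpa using hSexp _ x.2)⟩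
        have hle : S ≤ pCore s M := le_sSup ⟨hSn, hSp⟩
        haveI : (pCore s M).Characteristic := CfsgLib.pCore_characteristic s
        have h0 := hrad ((pCore s M).map M.subtype) inferInstance
          (by haveI := ((CfsgLib.isPGroup_pCore (G := M) s).map M.subtype).isNilpotent; infer_instance)
        rw [Subgroup.map_eq_bot_iff_of_injective _ M.subtype_injective] at h0
        exact hS0 (eq_bot_iff.mpr (hle.trans h0.le))
      obtain ⟨g, hg⟩ : ∃ g : G, S'.map (MulAut.conj g).toMonoidHom ≠ S' := by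
        by_contra h
        push Not at h
        exact hnor ⟨fun x hx g => (h g).le ⟨x, hx, rfl⟩⟩
      set T' := S'.map (MulAut.conj g).toMonoidHom with hT'
      have hT'M : T' ≤ M := by
        rintro _ ⟨x, hx, rfl⟩
        exact hMn.conj_mem x (hS'M hx) g
      have hSnM : ∀ s ∈ S', ∀ m ∈ M, m * s * m⁻¹ ∈ S' := by
        rintro _ ⟨s, hs, rfl⟩ m hm
        exact ⟨⟨m, hm⟩ * s * ⟨m, hm⟩⁻¹, hSn.conj_mem s hs _, by simp⟩
      have hTnM : ∀ t ∈ T', ∀ m ∈ M, m * t * m⁻¹ ∈ T' := by
        rintro _ ⟨s, hs, rfl⟩ m hm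
        refine ⟨g⁻¹ * m * g * s * (g⁻¹ * m * g)⁻¹, hSnM s hs _ (by simpa using hMn.conj_mem m hm g⁻¹), ?_⟩
        simp [mul_assoc]
      have hbot : ∀ x ∈ S', x ∈ T' → x = 1 := by
        intro x hx hx'
        rcases hSmin ((S' ⊓ T').subgroupOf M) ⟨fun y hy m => by
            rw [mem_subgroupOf] at hy ⊢
            push_cast
            exact ⟨hSnM _ hy.1 m m.2, hTnM _ hy.2 m m.2⟩⟩
          (fun y hy => by
            obtain ⟨s, hs, e⟩ := (mem_subgroupOf.mp hy).1
            exact (Subtype.ext e : s = y) ▸ hs) with h | h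
        · have : (⟨x, hS'M hx⟩ : M) ∈ (S' ⊓ T').subgroupOf M := ⟨hx, hx'⟩
          rw [h, mem_bot] at this
          exact congrArg Subtype.val this
        · exfalso
          have hle : S' ≤ T' := by
            rintro _ ⟨s, hs, rfl⟩
            exact (mem_subgroupOf.mp (h.ge hs)).2
          exact hg (eq_of_le_of_card_ge hle (Subgroup.card_map_of_injective (MulAut.conj g).injective).le).symm
      refine not_both hCN T' S' ?_ hSs fun a ha b hb => ?_
      · rw [hT', ne_eq, Subgroup.map_eq_bot_iff_of_injective _ (MulAut.conj g).injective, hS',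
          Subgroup.map_eq_bot_iff_of_injective _ M.subtype_injective]
        exact hS0
      · show a * b = b * a
        rw [← commutatorElement_eq_one_iff_mul_comm]
        refine hbot _ ?_ ?_
        · rw [commutatorElement_def]
          exact mul_mem (hSnM b hb a (hT'M ha)) (inv_mem hb)
        · rw [commutatorElement_def, show a * b * a⁻¹ * b⁻¹ = a * (b * a⁻¹ * b⁻¹) by group]
          exact mul_mem ha (hTnM _ (inv_mem ha) b (hS'M hb))
  refine ⟨M, hMn, inferInstance, ?_, fun c hc => ?_⟩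
  · by_contra hh
    push Not at hh
    exact hMs (Group.isSolvable_of_comm hh)
  · by_contra hc1
    exact not_both hCN (zpowers c) M (fun e => hc1 (mem_bot.mp (e ▸ mem_zpowers c))) hMs fun a ha b hb => by
      obtain ⟨k, rfl⟩ := ha
      exact (show Commute c b from hc b hb).zpow_left k

/-- A two-element commuting with an element of odd order of a normal simple subgroup is trivial. -/
theorem no_two_commute (hCN : IsCNGroup G) (M : Subgroup G) [M.Normal] [IsSimpleGroup M]
    (hne : ∃ a b : M, a * b ≠ b * a) {y x : G} {k : ℕ} (hy : y ^ 2 ^ k = 1) (hxM : x ∈ M) (hx : Odd (orderOf x))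
    (hx1 : x ≠ 1) (hc : y * x = x * y) : y = 1 := by
  haveI : Fact (Nat.Prime 2) := ⟨Nat.prime_two⟩
  by_contra hy1
  have hMC : CIT.IsCIT M := CITUse.cn_cit hne (CN.isCN_subgroup hCN M)
  obtain ⟨i, ht⟩ := CIT.exists_pow_orderOf_two hy1 hy
  set t := y ^ i with htdef
  have hyp : IsPGroup 2 (zpowers t) := IsPGroup.of_card (n := 1) (by rw [Nat.card_zpowers, ht, pow_one])
  obtain ⟨S, hS⟩ := hyp.exists_le_sylow
  have htS : t ∈ S := hS (mem_zpowers t)
  have hnsM : ¬ Group.IsSolvable M := fun h => by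
    haveI := h
    obtain ⟨a, b, hab⟩ := hne
    exact hab (IsSimpleGroup.comm_iff_isSolvable.mpr h a b)
  have hMS : (M ⊓ (S : Subgroup G)) ≠ ⊥ := by
    obtain ⟨s, hs⟩ := exists_prime_orderOf_dvd_card' (G := M) 2 (CITQuot.two_dvd_card hnsM)
    have hsp : IsPGroup 2 (zpowers (s : G)) :=
      IsPGroup.of_card (n := 1) (by rw [Nat.card_zpowers, Subgroup.orderOf_coe, hs, pow_one])
    obtain ⟨S', hS'⟩ := hsp.exists_le_sylow
    obtain ⟨g, hg⟩ := MulAction.exists_smul_eq G S' S
    intro e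
    have hm : g * s * g⁻¹ ∈ M ⊓ (S : Subgroup G) := Subgroup.mem_inf.mpr
      ⟨(inferInstance : M.Normal).conj_mem _ s.2 g, by
        rw [← hg, Sylow.coe_subgroup_smul]
        exact Subgroup.smul_mem_pointwise_smul _ (MulAut.conj g) _ (hS' (mem_zpowers _))⟩
    rw [e, mem_bot, mul_inv_eq_one, mul_eq_left] at hm
    rw [show s = 1 from Subtype.ext hm, orderOf_one] at hs
    omega
  haveI := S.2.isNilpotent
  have hI := CfsgLib.inf_center_ne_bot_of_nilpotent (G := (S : Subgroup G)) (N := M.subgroupOf S) (by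
    rw [ne_eq, subgroupOf_eq_bot, disjoint_iff]
    exact hMS)
  have hI2 : IsPGroup 2 (M.subgroupOf S ⊓ center (S : Subgroup G) : Subgroup (S : Subgroup G)) := S.2.to_subgroup _
  obtain ⟨w, hw, hwo⟩ := CIT.exists_orderOf_two_mem hI2 hI
  have hwM : (w : G) ∈ M := (Subgroup.mem_inf.mp hw).1
  have hwo' : orderOf (w : G) = 2 := by rw [Subgroup.orderOf_coe, hwo]
  have hwt : (w : G) * t = t * w :=
    congrArg Subtype.val (mem_center_iff.mp (Subgroup.mem_inf.mp hw).2 ⟨t, htS⟩).symm
  have hxw : x * w = (w : G) * x := commute_of_mem_centralizer hCN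
    (fun e => by rw [show t = 1 from e, orderOf_one] at ht; omega) ((show Commute y x from hc).symm.pow_right i).eq hwt
    (by rw [hwo']; exact Nat.coprime_two_right.mpr hx)
  have hwM' : orderOf (⟨w, hwM⟩ : M) = 2 := by rw [Subgroup.orderOf_mk, hwo']
  obtain ⟨j, hj⟩ := hMC _ hwM' ⟨⟨x, hxM⟩, mem_centralizer_singleton_iff.mpr (Subtype.ext hxw)⟩
  exact hx1 (CIT.eq_one_of_odd_pow_two hx (congrArg Subtype.val (congrArg Subtype.val hj)))

/-- In the trivial intersection case the simple socle is the whole group. -/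
theorem eq_top_ti (hCN : IsCNGroup G) (M : Subgroup G) [M.Normal] [IsSimpleGroup M]
    (hne : ∃ a b : M, a * b ≠ b * a) (hTI : CIT.IsTI M) (htype : CIT.LinType M ∨ CIT.SuzType M) : M = ⊤ := by
  haveI : Fact (Nat.Prime 2) := ⟨Nat.prime_two⟩
  have hMC : CIT.IsCIT M := CITUse.cn_cit hne (CN.isCN_subgroup hCN M)
  refine CIT.eq_top_of_ti ?_ M hne hTI htype
  intro t ht
  refine IsPGroup.of_card (Nat.eq_prime_pow_of_unique_prime_dvd Nat.card_pos.ne' fun {r} hr hd => ?_)
  by_contra hr2
  haveI := Fact.mk hr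
  obtain ⟨⟨x, hx⟩, hxo⟩ := exists_prime_orderOf_dvd_card' (G := centralizer ({t} : Set G)) r hd
  rw [Subgroup.orderOf_mk] at hxo
  -- an involution of the socle commuting with `x`
  have hyp : IsPGroup 2 (zpowers t) := IsPGroup.of_card (n := 1) (by rw [Nat.card_zpowers, ht, pow_one])
  obtain ⟨S, hS⟩ := hyp.exists_le_sylow
  have hnsM : ¬ Group.IsSolvable M := fun h => by
    haveI := h
    obtain ⟨a, b, hab⟩ := hne
    exact hab (IsSimpleGroup.comm_iff_isSolvable.mpr h a b)
  have hMS : (M ⊓ (S : Subgroup G)) ≠ ⊥ := by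
    obtain ⟨s, hs⟩ := exists_prime_orderOf_dvd_card' (G := M) 2 (CITQuot.two_dvd_card hnsM)
    have hsp : IsPGroup 2 (zpowers (s : G)) :=
      IsPGroup.of_card (n := 1) (by rw [Nat.card_zpowers, Subgroup.orderOf_coe, hs, pow_one])
    obtain ⟨S', hS'⟩ := hsp.exists_le_sylow
    obtain ⟨g, hg⟩ := MulAction.exists_smul_eq G S' S
    intro e
    have hm : g * s * g⁻¹ ∈ M ⊓ (S : Subgroup G) := Subgroup.mem_inf.mpr
      ⟨(inferInstance : M.Normal).conj_mem _ s.2 g, by
        rw [← hg, Sylow.coe_subgroup_smul]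
        exact Subgroup.smul_mem_pointwise_smul _ (MulAut.conj g) _ (hS' (mem_zpowers _))⟩
    rw [e, mem_bot, mul_inv_eq_one, mul_eq_left] at hm
    rw [show s = 1 from Subtype.ext hm, orderOf_one] at hs
    omega
  haveI := S.2.isNilpotent
  have hI := CfsgLib.inf_center_ne_bot_of_nilpotent (G := (S : Subgroup G)) (N := M.subgroupOf S) (by
    rw [ne_eq, subgroupOf_eq_bot, disjoint_iff]
    exact hMS)
  have hI2 : IsPGroup 2 (M.subgroupOf S ⊓ center (S : Subgroup G) : Subgroup (S : Subgroup G)) := S.2.to_subgroup _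
  obtain ⟨w, hw, hwo⟩ := CIT.exists_orderOf_two_mem hI2 hI
  have hwM : (w : G) ∈ M := (Subgroup.mem_inf.mp hw).1
  have hwo' : orderOf (w : G) = 2 := by rw [Subgroup.orderOf_coe, hwo]
  have hwt : (w : G) * t = t * w :=
    congrArg Subtype.val (mem_center_iff.mp (Subgroup.mem_inf.mp hw).2 ⟨t, hS (mem_zpowers t)⟩).symm
  have hodd2 : Nat.Coprime r 2 := (Nat.coprime_primes hr Nat.prime_two).mpr hr2
  have hxw : x * w = (w : G) * x := commute_of_mem_centralizer hCN
    (fun e => by rw [e, orderOf_one] at ht; omega) (mem_centralizer_singleton_iff.mp hx) hwt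
    (by rw [hwo', hxo]; exact hodd2)
  -- it centralises a Sylow subgroup of the socle
  set s : M := ⟨w, hwM⟩ with hs
  have hso : orderOf s = 2 := by rw [hs, Subgroup.orderOf_mk, hwo']
  have hsp : IsPGroup 2 (zpowers s) := IsPGroup.of_card (n := 1) (by rw [Nat.card_zpowers, hso, pow_one])
  obtain ⟨T, hT⟩ := hsp.exists_le_sylow
  obtain ⟨hH, hA, hcent⟩ := CIT.ti_hyp hne hMC hTI T
  have hsT : s ∈ T := hT (mem_zpowers s)
  have hw1 : (w : G) ≠ 1 := fun e => by rw [e, orderOf_one] at hwo'; omega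
  have hxT : ∀ v ∈ T, x * (v : G) = (v : G) * x := by
    intro v hv
    have hvs : v * s = s * v := mem_centralizer_singleton_iff.mp ((hcent s hsT hso).ge hv)
    refine commute_of_mem_centralizer hCN hw1 hxw (congrArg Subtype.val hvs) ?_
    obtain ⟨k, hk⟩ := T.2 ⟨v, hv⟩
    rw [hxo, Subgroup.orderOf_coe]
    exact (hodd2.pow_right k).coprime_dvd_right
      (orderOf_dvd_of_pow_eq_one (by simpa using congrArg Subtype.val hk))
  -- an element of odd order normalising it
  set NT := normalizer ((T : Subgroup M) : Set M) with hNT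
  obtain ⟨h, hhN, hh1, hhodd⟩ : ∃ h ∈ NT, h ≠ 1 ∧ Odd (orderOf h) := by
    by_contra hcon
    push Not at hcon
    have hN2 : IsPGroup 2 NT := IsPGroup.of_card (Nat.eq_prime_pow_of_unique_prime_dvd Nat.card_pos.ne' fun {q} hq hd => by
      by_contra hq2
      haveI := Fact.mk hq
      obtain ⟨⟨h, hh⟩, hho⟩ := exists_prime_orderOf_dvd_card' (G := NT) q hd
      rw [Subgroup.orderOf_mk] at hho
      exact hcon h hh (fun e => by rw [e, orderOf_one] at hho; exact hq.one_lt.ne hho)
        (hho ▸ hq.odd_of_ne_two hq2))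
    have heq : NT = (T : Subgroup M) := T.3 hN2 le_normalizer
    obtain ⟨a, haT, b, hbT, hao, hbo, hab⟩ := CIT.exists_two_involutions hne T
    have hSE : IsStronglyEmbedded (CentTI.Nn T) := hH.se
    obtain ⟨n, hn, hn'⟩ := CIT.conj_of_stronglyEmbedded hSE (Subgroup.le_normalizer haT) hao
      (Subgroup.le_normalizer hbT) hbo
    have hnT : n ∈ T := heq.le hn
    rw [(mem_centralizer_singleton_iff.mp ((hcent a haT hao).ge hnT) : n * a = a * n), mul_inv_cancel_right] at hn'
    exact hab hn'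
  -- it commutes with `x`
  let c : M := ⟨(h : G)⁻¹ * (x * h * x⁻¹), mul_mem (inv_mem h.2) ((inferInstance : M.Normal).conj_mem _ h.2 x)⟩
  have hc : c ∈ T := by
    refine (hcent s hsT hso).le (mem_centralizer_singleton_iff.mpr (Subtype.ext ?_))
    have hy : h * s * h⁻¹ ∈ T := (Subgroup.mem_normalizer_iff.mp hhN s).mp hsT
    have h1 := hxT _ hy
    show (h : G)⁻¹ * (x * h * x⁻¹) * w = w * ((h : G)⁻¹ * (x * h * x⁻¹))
    have h2 : x⁻¹ * (w : G) = (w : G) * x⁻¹ := ((show Commute x (w : G) from hxw).inv_left).eq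
    calc (h : G)⁻¹ * (x * h * x⁻¹) * w = (h : G)⁻¹ * (x * ((h : G) * w * (h : G)⁻¹)) * (h * x⁻¹) := by
          rw [mul_assoc, mul_assoc (x * (h : G)), h2]; group
      _ = (h : G)⁻¹ * (((h : G) * w * (h : G)⁻¹) * x) * (h * x⁻¹) := by
          rw [show x * ((h : G) * w * (h : G)⁻¹) = ((h : G) * w * (h : G)⁻¹) * x from h1]
      _ = _ := by group
  have hxc : x * (c : G) = (c : G) * x := hxT c hc
  have hxh : x * (h : G) * x⁻¹ = (h : G) * c := by show _ = (h : G) * ((h : G)⁻¹ * (x * h * x⁻¹)); group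
  have hiter : ∀ j : ℕ, x ^ j * (h : G) * (x ^ j)⁻¹ = (h : G) * (c : G) ^ j := by
    intro j
    induction j with
    | zero => simp
    | succ j ih =>
      calc x ^ (j + 1) * (h : G) * (x ^ (j + 1))⁻¹ = x * (x ^ j * h * (x ^ j)⁻¹) * x⁻¹ := by
            rw [pow_succ']; group
        _ = (x * (h : G) * x⁻¹) * (x * (c : G) ^ j * x⁻¹) := by rw [ih]; group
        _ = _ := by
            rw [hxh, ((show Commute x (c : G) from hxc).pow_right j).eq, mul_inv_cancel_right, pow_succ', mul_assoc]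
  have hc1 : (c : G) = 1 := by
    have h1 := hiter r
    rw [← hxo, pow_orderOf_eq_one, hxo, inv_one, one_mul, mul_one] at h1
    have h2 : orderOf (c : G) ∣ r := orderOf_dvd_of_pow_eq_one (mul_eq_left.mp h1.symm)
    obtain ⟨k, hk⟩ := T.2 ⟨c, hc⟩
    have h3 : orderOf (c : G) ∣ 2 ^ k := by
      rw [Subgroup.orderOf_coe]
      exact orderOf_dvd_of_pow_eq_one (by simpa using congrArg Subtype.val hk)
    exact orderOf_eq_one_iff.mp (Nat.eq_one_of_dvd_coprimes (hodd2.pow_right k) h2 h3)
  rw [hc1, mul_one] at hxh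
  have hxh' : x * (h : G) = (h : G) * x := mul_inv_eq_iff_eq_mul.mp hxh
  have hx1 : x ≠ 1 := fun e => by rw [e, orderOf_one] at hxo; exact hr.one_lt.ne hxo
  have hhs : (h : G) * w = w * h := commute_of_mem_centralizer hCN hx1 hxh'.symm hxw.symm
    (by rw [Subgroup.orderOf_coe, hwo']; exact Nat.coprime_two_right.mpr hhodd)
  have hhT : h ∈ T := by
    exact (hcent s hsT hso).le (mem_centralizer_singleton_iff.mpr (Subtype.ext hhs))
  exact hh1 (CIT.eq_one_of_mem_two_group T.2 hhT hhodd)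

end CfsgLib.CITExt
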