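import Cfsg.Agent.Lib.CITExt.CNBasic
import Cfsg.Agent.Lib.SpectrumThree.Linear
import Cfsg.Agent.Lib.EppoAlmost.List
import Cfsg.Agent.S2739

/-!
Groups with nilpotent centralisers over a socle `PSL₃` on four elements: there is nothing outside the socle.
-/

set_option autoImplicit false
set_option linter.unusedSectionVars false
set_option linter.style.haveILetI false

namespace CfsgLib.CITExt

open Subgroup Cfsg
open scoped Pointwise
open CfsgLib.CN (commute_of_mem_centralizer)

universe u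

variable {G : Type u} [Group G] [Finite G]

/-- Fixed points of an element of prime power order normalising a subgroup. -/
theorem card_fixed_modEq {r : ℕ} [Fact r.Prime] {y : G} {k : ℕ} (hy : y ^ r ^ k = 1) (P : Subgroup G)
    (hN : y ∈ normalizer (P : Set G)) :
    Nat.card (P ⊓ centralizer ({y} : Set G) : Subgroup G) ≡ Nat.card P [MOD r] := by
  have hle : zpowers y ≤ normalizer (P : Set G) := zpowers_le.mpr hN
  letI : MulAction (zpowers y) P :=
    { smul := fun g z => ⟨(g : G) * z * (g : G)⁻¹, (Subgroup.mem_normalizer_iff.mp (hle g.2) z).mp z.2⟩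
      one_smul := fun z => Subtype.ext (show (1 : G) * z * (1 : G)⁻¹ = z by group)
      mul_smul := fun g h z => Subtype.ext
        (show ((g : G) * h) * z * ((g : G) * h)⁻¹ = g * ((h : G) * z * (h : G)⁻¹) * (g : G)⁻¹ by group) }
  have hp : IsPGroup r (zpowers y) := by
    obtain ⟨j, -, hj⟩ := (Nat.dvd_prime_pow (Fact.out : r.Prime)).mp (orderOf_dvd_of_pow_eq_one hy)
    exact IsPGroup.of_card (n := j) (by rw [Nat.card_zpowers, hj])
  refine Eq.trans (congrArg (· % r) (Nat.card_congr ?_)) (hp.card_modEq_card_fixedPoints P).symm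
  exact
    { toFun := fun z => ⟨⟨z, (Subgroup.mem_inf.mp z.2).1⟩, fun g => Subtype.ext (by
        obtain ⟨i, hi⟩ := mem_zpowers_iff.mp g.2
        have hc : Commute y (z : G) := (mem_centralizer_singleton_iff.mp (Subgroup.mem_inf.mp z.2).2).symm
        show (g : G) * z * (g : G)⁻¹ = z
        rw [← hi, (hc.zpow_left i).eq, mul_inv_cancel_right])⟩
      invFun := fun z => ⟨z.1, Subgroup.mem_inf.mpr ⟨z.1.2, mem_centralizer_singleton_iff.mpr
        ((mul_inv_eq_iff_eq_mul.mp (congrArg Subtype.val (z.2 ⟨y, mem_zpowers y⟩))).symm)⟩⟩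
      left_inv := fun z => rfl
      right_inv := fun z => rfl }

theorem exists_fixed {r : ℕ} [Fact r.Prime] {y : G} {k : ℕ} (hy : y ^ r ^ k = 1) (P : Subgroup G)
    (hN : y ∈ normalizer (P : Set G)) (hP : ¬ Nat.card P ≡ 1 [MOD r]) : ∃ z ∈ P, z ≠ 1 ∧ y * z = z * y := by
  have h := card_fixed_modEq hy P hN
  have h1 : Nat.card (P ⊓ centralizer ({y} : Set G) : Subgroup G) ≠ 1 := fun e => hP (by rw [e] at h; exact h.symm)
  have h2 : (P ⊓ centralizer ({y} : Set G) : Subgroup G) ≠ ⊥ := fun e => h1 (Subgroup.card_eq_one.mpr e)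
  obtain ⟨⟨z, hz⟩, hz1⟩ := ne_bot_iff_exists_ne_one.mp h2
  exact ⟨z, (Subgroup.mem_inf.mp hz).1, fun e => hz1 (Subtype.ext e),
    (mem_centralizer_singleton_iff.mp (Subgroup.mem_inf.mp hz).2).symm⟩

section Spectrum

variable {F : Type} [Field F] [Fintype F]

theorem spectrum {M : Type u} [Group M] (e : M ≃* Matrix.ProjectiveSpecialLinearGroup (Fin 3) F)
    (h4 : Fintype.card F = 4) (m : M) :
    orderOf m ∣ 4 ∨ orderOf m = 3 ∨ orderOf m = 5 ∨ orderOf m = 7 := by
  haveI : Fact (Nat.Prime 2) := ⟨Nat.prime_two⟩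
  haveI : CharP F 2 := charP_of_card_eq_prime_pow (f := 2) (by rw [h4]; norm_num)
  have h : orderOf (e m) ∈ Set.range (orderOf : Matrix.ProjectiveSpecialLinearGroup (Fin 3) F → ℕ) := ⟨_, rfl⟩
  rw [CfsgLib.SpectrumThree.psl_spectrum 2, h4, Set.mem_ofPred_eq, MulEquiv.orderOf_eq] at h
  norm_num at h
  have one_or : ∀ {n : ℕ}, n.Prime → orderOf m ∣ n → orderOf m ∣ 4 ∨ orderOf m = n := fun hn hd =>
    ((Nat.dvd_prime hn).mp hd).imp (fun h1 => by rw [h1]; exact one_dvd _) id
  rcases h with h | h | h | h | h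
  · exact (one_or (by norm_num) h).imp id fun e => Or.inr (Or.inr e)
  · exact (one_or (by norm_num) h).imp id fun e => Or.inr (Or.inl e)
  · exact (one_or (by norm_num) h).imp id Or.inl
  · exact Or.inl (h.trans (by norm_num))
  · exact Or.inl h

/-- Two commuting elements of the socle of distinct prime orders, one of them odd, do not exist. -/
theorem prime_eq {M : Type u} [Group M] (e : M ≃* Matrix.ProjectiveSpecialLinearGroup (Fin 3) F)
    (h4 : Fintype.card F = 4) {a b : M} {s t : ℕ} (hs : s.Prime) (hs2 : s ≠ 2) (ht : t.Prime) (ha : orderOf a = s)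
    (hb : orderOf b = t) (hab : Commute a b) : s = t := by
  by_contra hne
  have h := hab.orderOf_mul_eq_mul_orderOf_of_coprime (by rw [ha, hb]; exact (Nat.coprime_primes hs ht).mpr hne)
  rw [ha, hb] at h
  rcases spectrum e h4 (a * b) with h' | h' | h' | h'
  · rw [h] at h'
    have := (Nat.Prime.dvd_of_dvd_pow (n := 2) hs (((dvd_mul_right s t).trans h').trans (by norm_num : 4 ∣ 2 ^ 2)))
    exact hs2 ((Nat.prime_dvd_prime_iff_eq hs Nat.prime_two).mp this)
  all_goals
    rw [h] at h'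
    have hp : (s * t).Prime := h' ▸ by norm_num
    exact Nat.not_prime_mul hs.ne_one ht.ne_one hp

end Spectrum

variable {F : Type} [Field F] [Fintype F]

/-- Odd primes of the index. -/
theorem dvd_sub_of_dvd_index (hCN : IsCNGroup G) (M : Subgroup G) [M.Normal]
    (e : M ≃* Matrix.ProjectiveSpecialLinearGroup (Fin 3) F) (h4 : Fintype.card F = 4) {r s : ℕ} [Fact r.Prime]
    [Fact s.Prime] (hrM : r ∣ M.index) (hs : s = 5 ∨ s = 7) (hrs : ¬ s ≡ 1 [MOD r]) : 20160 ≡ s [MOD r] := by
  have hr : r.Prime := Fact.out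
  have hsp : s.Prime := Fact.out
  have hcard : Nat.card M = 20160 := by rw [Nat.card_congr e.toEquiv, EppoAlmost.card_psl_three_four h4]
  obtain ⟨A⟩ : Nonempty (Sylow s M) := inferInstance
  have hA : Nat.card A = s := by
    rw [A.card_eq_multiplicity, hcard]
    rcases hs with rfl | rfl
    · rw [show (20160 : ℕ) = 5 * 4032 by norm_num, Nat.factorization_mul (by norm_num) (by norm_num),
        Finsupp.add_apply, Nat.Prime.factorization_self (by norm_num), Nat.factorization_eq_zero_of_not_dvd (by norm_num),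
        add_zero, pow_one]
    · rw [show (20160 : ℕ) = 7 * 2880 by norm_num, Nat.factorization_mul (by norm_num) (by norm_num),
        Finsupp.add_apply, Nat.Prime.factorization_self (by norm_num), Nat.factorization_eq_zero_of_not_dvd (by norm_num),
        add_zero, pow_one]
  set A' : Subgroup G := (A : Subgroup M).map M.subtype with hA'
  have hA'c : Nat.card A' = s := (Subgroup.card_map_of_injective M.subtype_injective).trans hA
  obtain ⟨q, hq⟩ := exists_prime_orderOf_dvd_card' (G := G ⧸ M) r hrM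
  obtain ⟨g, hg⟩ := QuotientGroup.mk'_surjective M q
  have hgN : g ∈ ((normalizer (A' : Set G) ⊔ M : Subgroup G) : Set G) := by
    rw [Sylow.normalizer_sup_eq_top A]; trivial
  rw [Subgroup.mul_normal] at hgN
  obtain ⟨n, hn, m, hm, rfl⟩ := hgN
  have hnq : QuotientGroup.mk' M n = q := by
    rw [← hg, map_mul, show QuotientGroup.mk' M m = 1 from (QuotientGroup.eq_one_iff m).mpr hm, mul_one]
  obtain ⟨k, c, hc, hnc⟩ := Nat.exists_eq_pow_mul_and_not_dvd (orderOf_pos n).ne' r hr.ne_one
  set x := n ^ c with hx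
  have hxr : x ^ r ^ k = 1 := by rw [hx, ← pow_mul, mul_comm, ← hnc, pow_orderOf_eq_one]
  have hxM : x ∉ M := by
    intro hmem
    have h1 : q ^ c = 1 := by rw [← hnq, ← map_pow]; exact (QuotientGroup.eq_one_iff _).mpr hmem
    exact hc (hq ▸ orderOf_dvd_of_pow_eq_one h1)
  have hx1 : x ≠ 1 := fun h => hxM (h ▸ one_mem M)
  obtain ⟨a, haA, ha1, hxa⟩ := exists_fixed hxr A' (pow_mem hn c) (by rwa [hA'c])
  have haM : a ∈ M := map_subtype_le _ haA
  have hao : orderOf (⟨a, haM⟩ : M) = s := by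
    rw [Subgroup.orderOf_mk]
    refine ((Nat.dvd_prime hsp).mp (hA'c ▸ Subgroup.orderOf_dvd_natCard _ haA)).resolve_left fun h => ?_
    exact ha1 (orderOf_eq_one_iff.mp h)
  set C : Subgroup G := M ⊓ centralizer ({x} : Set G) with hC
  have hCM : C ≤ M := inf_le_left
  have haC : a ∈ C := Subgroup.mem_inf.mpr ⟨haM, mem_centralizer_singleton_iff.mpr hxa.symm⟩
  have huniq : ∀ t : ℕ, t.Prime → t ∣ Nat.card C → t = s := by
    intro t ht htd
    haveI := Fact.mk ht
    obtain ⟨⟨b, hb⟩, hbo⟩ := exists_prime_orderOf_dvd_card' (G := C) t htd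
    rw [Subgroup.orderOf_mk] at hbo
    by_contra hne
    have hab : a * b = b * a := commute_of_mem_centralizer hCN hx1
      (mem_centralizer_singleton_iff.mp (Subgroup.mem_inf.mp haC).2)
      (mem_centralizer_singleton_iff.mp (Subgroup.mem_inf.mp hb).2)
      (by rw [← Subgroup.orderOf_mk (H := M) a haM, hao, hbo]; exact (Nat.coprime_primes hsp ht).mpr (Ne.symm hne))
    exact hne (prime_eq e h4 hsp (by omega) ht hao
      (show orderOf (⟨b, hCM hb⟩ : M) = t by rw [Subgroup.orderOf_mk, hbo]) (Subtype.ext hab)).symm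
  have hCc : Nat.card C = s := by
    obtain ⟨j, hj⟩ : ∃ j, Nat.card C = s ^ j := ⟨_, Nat.eq_prime_pow_of_unique_prime_dvd Nat.card_pos.ne'
      fun {t} ht htd => huniq t ht htd⟩
    have hd : s ^ j ∣ 20160 := hj ▸ hcard ▸ Subgroup.card_dvd_of_le hCM
    have hj1 : j ≤ 1 := by
      by_contra hh
      have := (pow_dvd_pow s (show 2 ≤ j by omega)).trans hd
      rcases hs with rfl | rfl <;> norm_num at this
    have hj0 : j ≠ 0 := by
      rintro rfl
      rw [pow_zero] at hj
      exact ha1 (mem_bot.mp (Subgroup.card_eq_one.mp hj ▸ haC))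
    rw [hj, show j = 1 by omega, pow_one]
  have h := card_fixed_modEq hxr M (by rw [normalizer_eq_top]; trivial)
  rw [← hC, hCc, hcard] at h
  exact h.symm

/-- The socle is everything. -/
theorem eq_top_L34 (hCN : IsCNGroup G) (M : Subgroup G) [M.Normal] [IsSimpleGroup M]
    (hne : ∃ a b : M, a * b ≠ b * a) (e : M ≃* Matrix.ProjectiveSpecialLinearGroup (Fin 3) F)
    (h4 : Fintype.card F = 4) : M = ⊤ := by
  classical
  haveI : Fact (Nat.Prime 2) := ⟨Nat.prime_two⟩
  haveI : Fact (Nat.Prime 3) := ⟨Nat.prime_three⟩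
  haveI : Fact (Nat.Prime 5) := ⟨by norm_num⟩
  haveI : Fact (Nat.Prime 7) := ⟨by norm_num⟩
  have hcard : Nat.card M = 20160 := by rw [Nat.card_congr e.toEquiv, EppoAlmost.card_psl_three_four h4]
  have hodd : ∀ r : ℕ, r.Prime → r ∣ M.index → r = 2 := by
    intro r hr hd
    by_contra hr2
    haveI := Fact.mk hr
    have h1 : ¬ 5 ≡ 1 [MOD r] := fun h => by
      rw [Nat.ModEq.comm, Nat.modEq_iff_dvd' (by norm_num)] at h
      exact hr2 ((Nat.prime_dvd_prime_iff_eq hr Nat.prime_two).mp (hr.dvd_of_dvd_pow (n := 2) h))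
    have h5 := dvd_sub_of_dvd_index hCN M e h4 hd (Or.inl rfl) h1
    rw [Nat.ModEq.comm, Nat.modEq_iff_dvd' (by norm_num)] at h5
    have hr3 : r ≠ 3 := fun h => by rw [h] at h5; norm_num at h5
    have h2 : ¬ 7 ≡ 1 [MOD r] := fun h => by
      rw [Nat.ModEq.comm, Nat.modEq_iff_dvd' (by norm_num)] at h
      rcases hr.dvd_mul.mp (show r ∣ 2 * 3 from h) with h' | h'
      · exact hr2 ((Nat.prime_dvd_prime_iff_eq hr Nat.prime_two).mp h')
      · exact hr3 ((Nat.prime_dvd_prime_iff_eq hr Nat.prime_three).mp h')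
    have h7 := dvd_sub_of_dvd_index hCN M e h4 hd (Or.inr rfl) h2
    rw [Nat.ModEq.comm, Nat.modEq_iff_dvd' (by norm_num)] at h7
    have h8 := Nat.dvd_sub h5 h7
    norm_num at h8
    exact hr2 ((Nat.prime_dvd_prime_iff_eq hr Nat.prime_two).mp h8)
  by_contra htop
  have h2i : 2 ∣ M.index := by
    obtain ⟨r, hr, hd⟩ := Nat.exists_prime_and_dvd (n := M.index) (fun h => htop (index_eq_one.mp h))
    exact hodd r hr hd ▸ hd
  obtain ⟨P⟩ : Nonempty (Sylow 3 M) := inferInstance
  have hP : Nat.card P = 9 := by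
    rw [P.card_eq_multiplicity, hcard, show (20160 : ℕ) = 3 ^ 2 * 2240 by norm_num,
      Nat.factorization_mul (by norm_num) (by norm_num), Finsupp.add_apply, Nat.factorization_pow, Finsupp.smul_apply,
      Nat.Prime.factorization_self (by norm_num), Nat.factorization_eq_zero_of_not_dvd (by norm_num)]
    norm_num
  have hP3 : ∀ z ∈ P, z ≠ 1 → orderOf z = 3 := by
    intro z hz hz1
    obtain ⟨j, hj⟩ := P.2 ⟨z, hz⟩
    have hd : orderOf z ∣ 3 ^ j := orderOf_dvd_of_pow_eq_one (congrArg Subtype.val hj)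
    rcases spectrum e h4 z with h | h | h | h
    · exact absurd (orderOf_eq_one_iff.mp (Nat.eq_one_of_dvd_coprimes
        ((show Nat.Coprime 3 4 by norm_num).pow_left j) hd h)) hz1
    · exact h
    all_goals
      rw [h] at hd
      exact absurd ((Nat.prime_dvd_prime_iff_eq (by norm_num) Nat.prime_three).mp
        (Nat.Prime.dvd_of_dvd_pow (by norm_num) hd)) (by norm_num)
  have hPcomm : ∀ a ∈ P, ∀ b ∈ P, a * b = b * a := fun a ha b hb =>
    congrArg Subtype.val ((IsPGroup.isMulCommutative_of_card_eq_prime_sq (G := (P : Subgroup M)) (p := 3) hP).is_comm.comm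
      ⟨a, ha⟩ ⟨b, hb⟩)
  -- centralisers of elements of order three are three-groups
  have hcen : ∀ z : M, orderOf z = 3 → IsPGroup 3 (centralizer ({z} : Set M)) := by
    intro z hz
    refine IsPGroup.of_card (Nat.eq_prime_pow_of_unique_prime_dvd Nat.card_pos.ne' fun {t} ht htd => ?_)
    haveI := Fact.mk ht
    obtain ⟨⟨b, hb⟩, hbo⟩ := exists_prime_orderOf_dvd_card' (G := centralizer ({z} : Set M)) t htd
    rw [Subgroup.orderOf_mk] at hbo
    exact (prime_eq e h4 Nat.prime_three (by norm_num) ht hz hbo (mem_centralizer_singleton_iff.mp hb).symm).symm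
  have hPcen : ∀ z ∈ P, z ≠ 1 → centralizer ({z} : Set M) = (P : Subgroup M) := fun z hz hz1 =>
    P.3 (hcen z (hP3 z hz hz1)) fun b hb => mem_centralizer_singleton_iff.mpr (hPcomm b hb z hz)
  set NM := normalizer ((P : Subgroup M) : Set M) with hNM
  set P' : Subgroup G := (P : Subgroup M).map M.subtype with hP'
  have hP'c : Nat.card P' = 9 := (Subgroup.card_map_of_injective M.subtype_injective).trans hP
  -- two-groups act freely on the nine
  have hfree : ∀ S : Subgroup G, IsPGroup 2 S → S ≤ normalizer (P' : Set G) → Nat.card S ≤ 8 := by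
    intro S hS hSN
    haveI : Nontrivial P' := Finite.one_lt_card_iff_nontrivial.mp (by omega)
    obtain ⟨⟨z, hz⟩, hz1⟩ := exists_ne (1 : P')
    have hz1' : z ≠ 1 := fun h => hz1 (Subtype.ext h)
    let f : S → {w : P' // w ≠ 1} := fun y => ⟨⟨(y : G) * z * (y : G)⁻¹,
      (Subgroup.mem_normalizer_iff.mp (hSN y.2) z).mp hz⟩, fun h => hz1' (conj_eq_one_iff.mp (congrArg Subtype.val h))⟩
    refine (Nat.card_le_card_of_injective f ?_).trans (le_of_eq ?_)
    · intro y y' h
      have h' : (y : G) * z * (y : G)⁻¹ = (y' : G) * z * (y' : G)⁻¹ := congrArg (fun w => ((w.1 : P') : G)) h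
      obtain ⟨⟨w, hwM⟩, hwP, rfl⟩ := hz
      obtain ⟨j, hj⟩ := hS (y'⁻¹ * y)
      have hw3 : orderOf (⟨w, hwM⟩ : M) = 3 := hP3 _ hwP fun h => hz1' (by rw [h]; rfl)
      have h1 := no_two_commute hCN M hne (y := ((y'⁻¹ * y : S) : G)) (x := w) (k := j)
        (congrArg Subtype.val hj) hwM (by rw [← Subgroup.orderOf_mk (H := M) w hwM, hw3]; decide) hz1' (by
          show (y' : G)⁻¹ * y * w = w * ((y' : G)⁻¹ * y)
          have h2 := congrArg (fun v => (y' : G)⁻¹ * v * y) h'
          simpa [mul_assoc] using h2)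
      exact Subtype.ext (inv_mul_eq_one.mp h1).symm
    · have h := Nat.card_congr (Equiv.optionSubtypeNe (1 : P'))
      rw [Finite.card_option, hP'c] at h
      omega
  have h16 : ¬ 16 ∣ Nat.card (normalizer (P' : Set G)) := by
    intro h
    obtain ⟨S, hS⟩ := Sylow.exists_subgroup_card_pow_prime 2 (n := 4) (G := normalizer (P' : Set G)) h
    have := hfree (S.map (Subgroup.subtype _)) ((IsPGroup.of_card hS).map _) (map_subtype_le S)
    rw [Subgroup.card_map_of_injective (Subgroup.subtype_injective _), hS] at this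
    norm_num at this
  have hmapN : NM.map M.subtype ≤ normalizer (P' : Set G) := Subgroup.le_normalizer_map M.subtype
  have hidx : M.index * Nat.card NM ∣ Nat.card (normalizer (P' : Set G)) := by
    have hsup : normalizer (P' : Set G) ⊔ M = ⊤ := Sylow.normalizer_sup_eq_top P
    set N := normalizer (P' : Set G) with hN
    have h1 : (M.subgroupOf N).index = M.index := by
      show M.relIndex N = M.index
      rw [← Subgroup.relIndex_sup_right (H := N) (K := M), hsup, Subgroup.relIndex_top_right]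
    rw [← (M.subgroupOf N).card_mul_index, h1, mul_comm]
    refine Nat.mul_dvd_mul_right ?_ _
    rw [← Subgroup.card_map_of_injective (K := M.subgroupOf N) (Subgroup.subtype_injective N),
      Subgroup.subgroupOf_map_subtype, ← Subgroup.card_map_of_injective (K := NM) M.subtype_injective]
    exact Subgroup.card_dvd_of_le (le_inf (map_subtype_le _) hmapN)
  -- the normaliser in the socle has order seventy-two
  have hPN : (P : Subgroup M) ≤ NM := le_normalizer
  obtain ⟨c, hc⟩ : 9 ∣ Nat.card NM := hP ▸ Subgroup.card_dvd_of_le hPN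
  have hn : Nat.card (Sylow 3 M) ≡ 1 [MOD 3] := card_sylow_modEq_one 3 M
  have hnc : Nat.card (Sylow 3 M) * (9 * c) = 20160 := by
    rw [← hc, ← hcard, P.card_eq_index_normalizer, mul_comm]
    exact Subgroup.card_mul_index NM
  have hno : ∀ s : ℕ, s.Prime → (s = 5 ∨ s = 7) → ¬ s ∣ Nat.card NM := by
    intro s hs hs' hd
    haveI := Fact.mk hs
    obtain ⟨⟨b, hb⟩, hbo⟩ := exists_prime_orderOf_dvd_card' (G := NM) s hd
    rw [Subgroup.orderOf_mk] at hbo
    obtain ⟨z, hz, hz1, hbz⟩ := exists_fixed (r := s) (k := 1) (by rw [pow_one, ← hbo, pow_orderOf_eq_one])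
      (P : Subgroup M) hb (by rw [hP]; rcases hs' with rfl | rfl <;> decide)
    have := prime_eq e h4 hs (by omega) Nat.prime_three hbo (hP3 z hz hz1) hbz
    omega
  have hc3 : 3 ≤ c := by
    obtain ⟨z₁, hz₁, hz₁1⟩ : ∃ z ∈ (P : Subgroup M), z ≠ 1 := by
      obtain ⟨⟨z, hz⟩, hz1⟩ := ne_bot_iff_exists_ne_one.mp (show (P : Subgroup M) ≠ ⊥ from fun h => by
        have := Subgroup.card_eq_one.mpr h
        omega)
      exact ⟨z, hz, fun h => hz1 (Subtype.ext h)⟩
    have ho₁ := hP3 z₁ hz₁ hz₁1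
    obtain ⟨z₂, hz₂, hz₂n⟩ : ∃ z ∈ (P : Subgroup M), z ∉ zpowers z₁ := by
      by_contra h
      push Not at h
      have := Subgroup.card_le_of_le (show (P : Subgroup M) ≤ zpowers z₁ from h)
      rw [hP, Nat.card_zpowers, ho₁] at this
      omega
    have hz₂1 : z₂ ≠ 1 := fun h => hz₂n (h ▸ one_mem _)
    have hz₃n : z₁ * z₂ ∉ zpowers z₁ := fun h => hz₂n (by
      simpa using mul_mem (inv_mem (mem_zpowers z₁)) h)
    have hz₃n' : z₁ * z₂ ∉ zpowers z₂ := fun h => by
      have h1 : z₁ ∈ zpowers z₂ := by simpa using mul_mem h (inv_mem (mem_zpowers z₂))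
      have h2 : zpowers z₁ = zpowers z₂ := eq_of_le_of_card_ge (zpowers_le.mpr h1)
        (by rw [Nat.card_zpowers, Nat.card_zpowers, ho₁, hP3 z₂ hz₂ hz₂1])
      exact hz₂n (h2 ▸ mem_zpowers z₂)
    have hz₃ : z₁ * z₂ ∈ (P : Subgroup M) := mul_mem hz₁ hz₂
    -- the three subgroups are in one orbit of the normaliser
    have horb : ∀ w ∈ (P : Subgroup M), w ≠ 1 → ∃ g : NM, MulAut.conj (g : M) • zpowers z₁ = zpowers w := by
      intro w hw hw1
      obtain ⟨g, hg⟩ := Cfsg.Agent.S2739.result F h4 ((zpowers z₁).map e.toMonoidHom) ((zpowers w).map e.toMonoidHom)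
        (by rw [Subgroup.card_map_of_injective (f := e.toMonoidHom) e.injective, Nat.card_zpowers, ho₁])
        (by rw [Subgroup.card_map_of_injective (f := e.toMonoidHom) e.injective, Nat.card_zpowers, hP3 w hw hw1])
      obtain ⟨g, rfl⟩ := e.surjective g
      have hgz : g * z₁ * g⁻¹ ∈ zpowers w := by
        have h1 : e g * e z₁ * (e g)⁻¹ ∈ (zpowers w).map e.toMonoidHom := by
          rw [← hg]
          exact Subgroup.smul_mem_pointwise_smul _ (MulAut.conj (e g)) _ ⟨z₁, mem_zpowers z₁, rfl⟩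
        obtain ⟨v, hv, hve⟩ := h1
        rw [MulEquiv.coe_toMonoidHom, ← map_inv, ← map_mul, ← map_mul] at hve
        exact e.injective hve ▸ hv
      set v := g * z₁ * g⁻¹ with hv
      have hv1 : v ≠ 1 := fun h => hz₁1 (conj_eq_one_iff.mp h)
      have hvP : v ∈ (P : Subgroup M) := zpowers_le.mpr hw hgz
      have hvw : zpowers v = zpowers w := eq_of_le_of_card_ge (zpowers_le.mpr hgz)
        (by rw [Nat.card_zpowers, Nat.card_zpowers, hP3 w hw hw1, hP3 v hvP hv1])
      have hgN : g ∈ NM := by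
        refine Subgroup.mem_normalizer_iff.mpr fun p => ⟨fun hp => ?_, fun hp => ?_⟩
        · refine (hPcen v hvP hv1).le ?_
          refine mem_centralizer_singleton_iff.mpr ?_
          calc g * p * g⁻¹ * v = g * (p * z₁) * g⁻¹ := by rw [hv]; group
            _ = g * (z₁ * p) * g⁻¹ := by rw [hPcomm p hp z₁ hz₁]
            _ = v * (g * p * g⁻¹) := by rw [hv]; group
        · refine (hPcen z₁ hz₁ hz₁1).le ?_
          refine mem_centralizer_singleton_iff.mpr ?_
          calc p * z₁ = g⁻¹ * ((g * p * g⁻¹) * v) * g := by rw [hv]; group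
            _ = g⁻¹ * (v * (g * p * g⁻¹)) * g := by rw [hPcomm _ hp v hvP]
            _ = z₁ * p := by rw [hv]; group
      refine ⟨⟨g, hgN⟩, ?_⟩
      rw [← hvw]
      show (zpowers z₁).map (MulAut.conj g).toMonoidHom = zpowers v
      rw [MonoidHom.map_zpowers]
      rfl
    have hd13 : zpowers z₁ ≠ zpowers (z₁ * z₂) := fun h => hz₃n (h ▸ mem_zpowers _)
    have hd23 : zpowers z₂ ≠ zpowers (z₁ * z₂) := fun h => hz₃n' (h ▸ mem_zpowers _)
    have hd12 : zpowers z₁ ≠ zpowers z₂ := fun h => hz₂n (h ▸ mem_zpowers _)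
    obtain ⟨g₁, hg₁⟩ := horb z₁ hz₁ hz₁1
    obtain ⟨g₂, hg₂⟩ := horb z₂ hz₂ hz₂1
    obtain ⟨g₃, hg₃⟩ := horb _ hz₃ fun h => hz₃n (h ▸ one_mem _)
    have key : ∀ a b : NM, (QuotientGroup.mk a : NM ⧸ (P : Subgroup M).subgroupOf NM) = QuotientGroup.mk b →
        MulAut.conj (a : M) • zpowers z₁ = MulAut.conj (b : M) • zpowers z₁ := by
      intro a b hab
      rw [QuotientGroup.eq, Subgroup.mem_subgroupOf] at hab
      have hfix : MulAut.conj (((a⁻¹ * b : NM) : M)) • zpowers z₁ = zpowers z₁ := by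
        show (zpowers z₁).map (MulAut.conj (((a⁻¹ * b : NM) : M))).toMonoidHom = _
        rw [MonoidHom.map_zpowers]
        congr 1
        show ((a⁻¹ * b : NM) : M) * z₁ * ((a⁻¹ * b : NM) : M)⁻¹ = z₁
        rw [hPcomm _ hab z₁ hz₁, mul_inv_cancel_right]
      conv_lhs => rw [← hfix, smul_smul, ← map_mul, ← Subgroup.coe_mul, mul_inv_cancel_left]
    let f : Fin 3 → NM ⧸ (P : Subgroup M).subgroupOf NM := fun i => QuotientGroup.mk (![g₁, g₂, g₃] i)
    have hf : Function.Injective f := fun i j hij => by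
      have h := key _ _ hij
      fin_cases i <;> fin_cases j <;> simp [hg₁, hg₂, hg₃] at h ⊢ <;>
        first | exact hd12 h | exact hd13 h | exact hd23 h | exact hd12 h.symm | exact hd13 h.symm | exact hd23 h.symm
    have h3 := Nat.card_le_card_of_injective f hf
    rw [Nat.card_fin, ← Subgroup.index_eq_card] at h3
    have h9 := ((P : Subgroup M).subgroupOf NM).card_mul_index
    rw [Nat.card_congr (subgroupOfEquivOfLe hPN).toEquiv, hP, hc] at h9
    omega
  have h7 : ¬ 7 ∣ c := fun h => hno 7 (by norm_num) (Or.inr rfl) (hc ▸ h.mul_left 9)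
  have h5 : ¬ 5 ∣ c := fun h => hno 5 (by norm_num) (Or.inl rfl) (hc ▸ h.mul_left 9)
  have h8 : ¬ 8 ∣ c := by
    intro h
    refine h16 (((show 16 ∣ 2 * (9 * c) from ?_).trans (Nat.mul_dvd_mul_right h2i _)).trans (hc ▸ hidx))
    obtain ⟨d, rfl⟩ := h
    exact ⟨9 * d, by ring⟩
  have hn9 : Nat.card (Sylow 3 M) * c = 2240 := Nat.eq_of_mul_eq_mul_left (show 0 < 9 by norm_num)
    ((mul_left_comm 9 _ c).trans (hnc.trans (by norm_num)))
  have hmem : c ∈ Nat.divisors 2240 := Nat.mem_divisors.mpr ⟨⟨_, hn9.symm.trans (mul_comm _ _)⟩, by norm_num⟩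
  have hc4 : c = 4 := by
    have hd : ∀ d ∈ Nat.divisors 2240, 3 ≤ d → ¬ 5 ∣ d → ¬ 7 ∣ d → ¬ 8 ∣ d → d = 4 := by decide +kernel
    exact hd c hmem hc3 h5 h7 h8
  rw [hc4] at hn9
  rw [show Nat.card (Sylow 3 M) = 560 by omega] at hn
  exact absurd hn (by decide)

end CfsgLib.CITExt
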