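import Cfsg.Agent.Lib.CITExt.Module
import Cfsg.Agent.Lib.CITQuot.Basic
import Cfsg.Agent.Lib.CIT.Basic

/-!
A normal two-subgroup of a group with two-group involution centralisers is elementary abelian when the quotient has
neither of the two obstructions.
-/

set_option autoImplicit false
set_option linter.unusedSectionVars false
set_option linter.style.haveILetI false

namespace CfsgLib.CITExt

open Subgroup
open scoped commutatorElement

universe u

variable {G : Type u} [Group G] [Finite G] (P : Subgroup G) [P.Normal]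
variable {X : Type u} [Group X] (f : G →* X) (V : Subgroup X) [V.Normal] [IsMulCommutative V]

open scoped IsMulCommutative

/-- The action of an overgroup on a normal abelian section. -/
def conjAdd : G →* AddMonoid.End (Additive V) where
  toFun g := MonoidHom.toAdditive ((MulAut.conjNormal (H := V) (f g)).toMonoidHom)
  map_one' := AddMonoidHom.ext fun x => by
    show Additive.ofMul (MulAut.conjNormal (H := V) (f 1) x.toMul) = x
    rw [map_one, map_one]; rfl
  map_mul' g h := AddMonoidHom.ext fun x => by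
    show Additive.ofMul (MulAut.conjNormal (H := V) (f (g * h)) x.toMul) =
      Additive.ofMul (MulAut.conjNormal (H := V) (f g) (MulAut.conjNormal (H := V) (f h) x.toMul))
    rw [map_mul, map_mul]; rfl

theorem conjAdd_val (g : G) (x : Additive V) :
    (((conjAdd f V g x).toMul : V) : X) = f g * (x.toMul : X) * (f g)⁻¹ := rfl

variable (hcent : ∀ p ∈ P, ∀ v ∈ V, f p * v = v * f p)

/-- The action of the quotient. -/
def secRep : G ⧸ P →* AddMonoid.End (Additive V) :=
  QuotientGroup.lift P (conjAdd f V) fun p hp => AddMonoidHom.ext fun x => by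
    refine Additive.toMul.injective (Subtype.ext ?_)
    show f p * (x.toMul : X) * (f p)⁻¹ = (x.toMul : X)
    rw [hcent p hp _ (x.toMul : V).2, mul_inv_cancel_right]

theorem secRep_val (g : G) (x : Additive V) :
    (((secRep P f V hcent (QuotientGroup.mk g) x).toMul : V) : X) = f g * (x.toMul : X) * (f g)⁻¹ := rfl

theorem afpf_secRep [Finite X] (hX : CIT.IsCIT X) (hV : IsPGroup 2 V) (hker : f.ker ≤ P) :
    AFpf (secRep P f V hcent) := by
  intro q hq ho x hx
  obtain ⟨g, rfl⟩ := QuotientGroup.mk_surjective q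
  obtain ⟨a, b, hb, hab⟩ := Nat.exists_eq_two_pow_mul_odd (orderOf_pos g).ne'
  have hy : orderOf (g ^ 2 ^ a) = b := by
    rw [orderOf_pow' g (by positivity), hab, Nat.gcd_eq_right (dvd_mul_right _ _),
      Nat.mul_div_cancel_left _ (by positivity)]
  have hnot : g ^ 2 ^ a ∉ P := fun hm => by
    have h1 : (QuotientGroup.mk g : G ⧸ P) ^ 2 ^ a = 1 := by
      rw [← QuotientGroup.mk_pow, QuotientGroup.eq_one_iff]; exact hm
    exact hq (CIT.eq_one_of_odd_pow_two ho h1)
  have hfix : secRep P f V hcent (QuotientGroup.mk (g ^ 2 ^ a)) x = x := by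
    rw [QuotientGroup.mk_pow]
    generalize 2 ^ a = n
    induction n with
    | zero => rw [pow_zero, map_one]; rfl
    | succ n ih => rw [pow_succ, map_mul]; exact (congrArg _ hx).trans ih
  have h1 : f (g ^ 2 ^ a) * (x.toMul : X) * (f (g ^ 2 ^ a))⁻¹ = (x.toMul : X) := by
    rw [← secRep_val P f V hcent, hfix]
  have hodd : Odd (orderOf (f (g ^ 2 ^ a))) := (hy ▸ hb).of_dvd_nat (orderOf_map_dvd f _)
  have hne : f (g ^ 2 ^ a) ≠ 1 := fun e => hnot (hker e)
  refine Additive.toMul.injective (Subtype.ext ?_)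
  exact CIT.IsCIT.fpf_mem hX hV hodd hne (x.toMul : V).2 (mul_inv_eq_iff_eq_mul.mp h1)

variable {P}

theorem conj_comm {a b g : X} : g * ⁅a, b⁆ * g⁻¹ = ⁅g * a * g⁻¹, g * b * g⁻¹⁆ := by
  simp only [commutatorElement_def]; group

/-- The normal two-subgroup is abelian. -/
theorem abelian {Q : Type} [Group Q] (hC : CIT.IsCIT G) (hP : IsPGroup 2 P) (e : G ⧸ P ≃* Q)
    (hPair : NoPair.{0, u} Q) : ∀ a ∈ P, ∀ b ∈ P, a * b = b * a := by
  classical
  haveI : Fact (Nat.Prime 2) := ⟨Nat.prime_two⟩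
  by_contra hcon
  push Not at hcon
  obtain ⟨a₀, ha₀, b₀, hb₀, hne₀⟩ := hcon
  obtain ⟨R, ⟨hRn, hRP, a, ha, b, hb, hab⟩, hmax⟩ := (wellFounded_gt (α := Subgroup G)).has_min
    {R | R.Normal ∧ R ≤ P ∧ ∃ a ∈ P, ∃ b ∈ P, ⁅a, b⁆ ∉ R}
    ⟨⊥, inferInstance, bot_le, a₀, ha₀, b₀, hb₀, fun h => hne₀ (commutatorElement_eq_one_iff_mul_comm.mp h)⟩
  haveI := hRn
  set π := QuotientGroup.mk' R with hπ
  set Pb := P.map π with hPb
  haveI hPbn : Pb.Normal := Subgroup.Normal.map inferInstance π (QuotientGroup.mk'_surjective R)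
  have hPb2 : IsPGroup 2 Pb := hP.map π
  have hR2 : IsPGroup 2 R := hP.to_le hRP
  have hCb : CIT.IsCIT (G ⧸ R) := CITQuot.cit_quotient hC R hR2
  have hmem : ∀ p ∈ P, π p ∈ Pb := fun p hp => ⟨p, hp, rfl⟩
  -- every normal subgroup in the image contains the commutators
  have hmin : ∀ N : Subgroup (G ⧸ R), N.Normal → N ≤ Pb → N ≠ ⊥ → ∀ x ∈ Pb, ∀ y ∈ Pb, ⁅x, y⁆ ∈ N := by
    intro N hN hNle hN0 x hx y hy
    obtain ⟨p, hp, rfl⟩ := hx
    obtain ⟨q, hq, rfl⟩ := hy
    by_contra hnm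
    refine hmax (N.comap π) ⟨hN.comap π, ?_, p, hp, q, hq, fun h => hnm (by rw [← map_commutatorElement]; exact h)⟩ ?_
    · intro g hg
      obtain ⟨g', hg', eg⟩ := hNle hg
      have : g'⁻¹ * g ∈ R := QuotientGroup.eq.mp eg
      rw [show g = g' * (g'⁻¹ * g) by group]
      exact mul_mem hg' (hRP this)
    · refine lt_of_le_of_ne (fun r hr => ?_) fun h => hN0 ?_
      · show π r ∈ N
        rw [hπ, QuotientGroup.mk'_apply, (QuotientGroup.eq_one_iff r).mpr hr]
        exact one_mem N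
      · refine (Subgroup.eq_bot_iff_forall _).mpr fun z hz => ?_
        obtain ⟨g, rfl⟩ := QuotientGroup.mk'_surjective R z
        have : g ∈ R := h.symm ▸ (show g ∈ N.comap π from hz)
        exact (QuotientGroup.eq_one_iff g).mpr this
  -- the derived subgroup
  set D := ⁅Pb, Pb⁆ with hD
  haveI hDn : D.Normal := Subgroup.commutator_normal Pb Pb
  have hDle : D ≤ Pb := Subgroup.commutator_le_left Pb Pb
  set Z := Pb ⊓ Subgroup.centralizer (Pb : Set (G ⧸ R)) with hZ
  have hPb0 : Pb ≠ ⊥ := fun h => hab (by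
    have h1 := hmem a ha
    rw [h, Subgroup.mem_bot] at h1
    have : a ∈ R := (QuotientGroup.eq_one_iff a).mp h1
    rw [commutatorElement_def, show a * b * a⁻¹ * b⁻¹ = a * (b * a⁻¹ * b⁻¹) by group]
    exact mul_mem this (hRn.conj_mem _ (inv_mem this) b))
  have hZ0 : Z ≠ ⊥ := by
    haveI : Nontrivial Pb := (Subgroup.nontrivial_iff_ne_bot Pb).mpr hPb0
    haveI := hPb2.center_nontrivial
    obtain ⟨z, hz⟩ := exists_ne (1 : Subgroup.center Pb)
    intro h
    have hzZ : ((z : Pb) : G ⧸ R) ∈ Z := Subgroup.mem_inf.mpr ⟨(z : Pb).2, fun y hy =>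
      congrArg Subtype.val (Subgroup.mem_center_iff.mp z.2 ⟨y, hy⟩)⟩
    rw [h, Subgroup.mem_bot] at hzZ
    exact hz (Subtype.ext (Subtype.ext hzZ))
  haveI : (Subgroup.centralizer (Pb : Set (G ⧸ R))).Normal := inferInstance
  have hDZ : D ≤ Z := Subgroup.commutator_le.mpr fun x hx y hy => hmin Z inferInstance inf_le_left hZ0 x hx y hy
  have hcentral : ∀ d ∈ D, ∀ x ∈ Pb, x * d = d * x := fun d hd x hx => (Subgroup.mem_inf.mp (hDZ hd)).2 x hx
  let Z₁ : Subgroup (G ⧸ R) :=
    { carrier := {z | z ∈ Z ∧ z * z = 1}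
      one_mem' := ⟨one_mem Z, one_mul 1⟩
      mul_mem' := fun {x y} hx hy => ⟨mul_mem hx.1 hy.1, by
        have h := (Subgroup.mem_inf.mp hy.1).2 x (Subgroup.mem_inf.mp hx.1).1
        calc x * y * (x * y) = x * (y * x) * y := by group
          _ = x * x * (y * y) := by rw [← h]; group
          _ = 1 := by rw [hx.2, hy.2, one_mul]⟩
      inv_mem' := fun {x} hx => ⟨inv_mem hx.1, by rw [← _root_.mul_inv_rev, hx.2, inv_one]⟩ }
  have hZn : Z.Normal := inferInstance
  have hD2 : ∀ d ∈ D, d * d = 1 := by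
    have : D ≤ Z₁ := Subgroup.commutator_le.mpr fun x hx y hy =>
      hmin Z₁ ⟨fun z hz g => ⟨hZn.conj_mem z hz.1 g, by
        rw [show g * z * g⁻¹ * (g * z * g⁻¹) = g * (z * z) * g⁻¹ by group, hz.2]; group⟩⟩
        (fun z hz => (Subgroup.mem_inf.mp hz.1).1) (fun h => by
          obtain ⟨z, hzZ, hzo⟩ := CIT.exists_orderOf_two_mem (hPb2.to_le inf_le_left) hZ0
          have hz1 : z ∈ Z₁ := ⟨hzZ, by rw [← sq, ← hzo, pow_orderOf_eq_one]⟩
          rw [h, Subgroup.mem_bot] at hz1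
          rw [hz1, orderOf_one] at hzo
          omega) x hx y hy
    exact fun d hd => (this hd).2
  haveI : IsMulCommutative D := ⟨⟨fun x y => Subtype.ext (hcentral y y.2 x (hDle x.2))⟩⟩
  -- the second section
  set R' := Z.comap π with hR'
  haveI hR'n : R'.Normal := hZn.comap π
  have hR'P : R' ≤ P := by
    intro g hg
    obtain ⟨g', hg', eg⟩ := (Subgroup.mem_inf.mp hg).1
    have : g'⁻¹ * g ∈ R := QuotientGroup.eq.mp eg
    rw [show g = g' * (g'⁻¹ * g) by group]
    exact mul_mem hg' (hRP this)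
  set π' := QuotientGroup.mk' R' with hπ'
  set V := P.map π' with hV
  haveI hVn : V.Normal := Subgroup.Normal.map inferInstance π' (QuotientGroup.mk'_surjective R')
  have hPR' : ∀ p ∈ P, (∀ q ∈ P, ⁅π p, π q⁆ = 1) → p ∈ R' := fun p hp h => Subgroup.mem_inf.mpr ⟨hmem p hp, fun y hy => by
    obtain ⟨q, hq, rfl⟩ := hy
    exact (commutatorElement_eq_one_iff_mul_comm.mp (h q hq)).symm⟩
  have hcD : ∀ p ∈ P, ∀ q ∈ P, ⁅π p, π q⁆ ∈ D := fun p hp q hq =>
    Subgroup.commutator_mem_commutator (hmem p hp) (hmem q hq)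
  haveI : IsMulCommutative V := by
    refine ⟨⟨?_⟩⟩
    rintro ⟨_, p, hp, rfl⟩ ⟨_, q, hq, rfl⟩
    refine Subtype.ext (commutatorElement_eq_one_iff_mul_comm.mp ?_)
    show ⁅π' p, π' q⁆ = 1
    rw [← map_commutatorElement, hπ', QuotientGroup.mk'_apply, QuotientGroup.eq_one_iff]
    show π ⁅p, q⁆ ∈ Z
    rw [map_commutatorElement]
    exact hDZ (hcD p hp q hq)
  have hbil : ∀ x ∈ Pb, ∀ y ∈ Pb, ∀ z ∈ Pb, ⁅x * y, z⁆ = ⁅x, z⁆ * ⁅y, z⁆ ∧ ⁅x, y * z⁆ = ⁅x, y⁆ * ⁅x, z⁆ := by
    intro x hx y hy z hz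
    have h1 := hcentral _ (Subgroup.commutator_mem_commutator hy hz) x hx
    have h2 := hcentral _ (Subgroup.commutator_mem_commutator hx hz) y hy
    constructor
    · calc ⁅x * y, z⁆ = x * ⁅y, z⁆ * x⁻¹ * ⁅x, z⁆ := by simp only [commutatorElement_def]; group
        _ = ⁅y, z⁆ * ⁅x, z⁆ := by rw [h1, mul_inv_cancel_right]
        _ = ⁅x, z⁆ * ⁅y, z⁆ := hcentral _ (Subgroup.commutator_mem_commutator hx hz) _
            (hDle (Subgroup.commutator_mem_commutator hy hz))
    · calc ⁅x, y * z⁆ = ⁅x, y⁆ * (y * ⁅x, z⁆ * y⁻¹) := by simp only [commutatorElement_def]; group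
        _ = ⁅x, y⁆ * ⁅x, z⁆ := by rw [h2, mul_inv_cancel_right]
  have hVsq : ∀ v ∈ V, v * v = 1 := by
    rintro _ ⟨p, hp, rfl⟩
    rw [← map_mul, hπ', QuotientGroup.mk'_apply, QuotientGroup.eq_one_iff]
    refine hPR' _ (mul_mem hp hp) fun q hq => ?_
    rw [map_mul, (hbil _ (hmem p hp) _ (hmem p hp) _ (hmem q hq)).1]
    exact hD2 _ (hcD p hp q hq)
  have hcent1 : ∀ p ∈ P, ∀ v ∈ D, π p * v = v * π p := fun p hp v hv => hcentral v hv _ (hmem p hp)
  have hcent2 : ∀ p ∈ P, ∀ v ∈ V, π' p * v = v * π' p := fun p hp v hv =>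
    congrArg Subtype.val (mul_comm' (⟨π' p, p, hp, rfl⟩ : V) ⟨v, hv⟩)
  let φ : Q →* AddMonoid.End (Additive V) := (secRep P π' V hcent2).comp e.symm.toMonoidHom
  let ψ : Q →* AddMonoid.End (Additive D) := (secRep P π D hcent1).comp e.symm.toMonoidHom
  have hφ : AFpf φ := (afpf_secRep P π' V hcent2 (CITQuot.cit_quotient hC R' (hP.to_le hR'P)) (hP.map π')
    (by rw [hπ', QuotientGroup.ker_mk']; exact hR'P)).comp e.symm.toMonoidHom e.symm.injective
  have hψ : AFpf ψ := (afpf_secRep P π D hcent1 hCb (hPb2.to_le hDle)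
    (by rw [hπ, QuotientGroup.ker_mk']; exact hRP)).comp e.symm.toMonoidHom e.symm.injective
  -- the pairing
  have hsurj : ∀ x : Additive V, ∃ p ∈ P, π' p = (x.toMul : G ⧸ R') := fun x => (x.toMul : V).2
  choose lift hliftP hlift using hsurj
  let c : ∀ p q : G, p ∈ P → q ∈ P → Additive D := fun p q hp hq => Additive.ofMul ⟨_, hcD p hp q hq⟩
  have hwd : ∀ {p p' q q' : G}, p ∈ P → p' ∈ P → q ∈ P → q' ∈ P → π' p = π' p' → π' q = π' q' →
      ⁅π p, π q⁆ = ⁅π p', π q'⁆ := by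
    intro p p' q q' hp hp' hq hq' e1 e2
    have key : ∀ {p p' : G}, p ∈ P → p' ∈ P → π' p = π' p' → ∀ r ∈ P,
        ⁅π p, π r⁆ = ⁅π p', π r⁆ ∧ ⁅π r, π p⁆ = ⁅π r, π p'⁆ := by
      intro p p' hp hp' e r hr
      have hd : π (p⁻¹ * p') ∈ Z := QuotientGroup.eq.mp e
      have h0 := (Subgroup.mem_inf.mp hd).2 _ (hmem r hr)
      rw [show π p' = π p * π (p⁻¹ * p') by rw [← map_mul, mul_inv_cancel_left],
        (hbil _ (hmem p hp) _ (Subgroup.mem_inf.mp hd).1 _ (hmem r hr)).1,
        (hbil _ (hmem r hr) _ (hmem p hp) _ (Subgroup.mem_inf.mp hd).1).2,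
        commutatorElement_eq_one_iff_mul_comm.mpr h0, commutatorElement_eq_one_iff_mul_comm.mpr h0.symm, mul_one,
        mul_one]
      exact ⟨rfl, rfl⟩
    rw [(key hp hp' e1 q hq).1, (key hq hq' e2 p' hp').2]
  have hadd : ∀ x y, π' (lift (x + y)) = π' (lift x * lift y) := fun x y => by
    rw [hlift, map_mul, hlift, hlift]; rfl
  let β : Additive V →+ Additive V →+ Additive D := AddMonoidHom.mk'
    (fun x => AddMonoidHom.mk' (fun y => c _ _ (hliftP x) (hliftP y)) fun y y' => by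
      refine Additive.toMul.injective (Subtype.ext ?_)
      show ⁅π (lift x), π (lift (y + y'))⁆ = ⁅π (lift x), π (lift y)⁆ * ⁅π (lift x), π (lift y')⁆
      rw [hwd (hliftP x) (hliftP x) (hliftP _) (mul_mem (hliftP y) (hliftP y')) rfl (hadd y y'), map_mul]
      exact (hbil _ (hmem _ (hliftP x)) _ (hmem _ (hliftP y)) _ (hmem _ (hliftP y'))).2)
    fun x x' => by
      refine AddMonoidHom.ext fun y => ?_
      refine Additive.toMul.injective (Subtype.ext ?_)
      show ⁅π (lift (x + x')), π (lift y)⁆ = ⁅π (lift x), π (lift y)⁆ * ⁅π (lift x'), π (lift y)⁆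
      rw [hwd (hliftP _) (mul_mem (hliftP x) (hliftP x')) (hliftP y) (hliftP y) (hadd x x') rfl, map_mul]
      exact (hbil _ (hmem _ (hliftP x)) _ (hmem _ (hliftP x')) _ (hmem _ (hliftP y))).1
  have h0 := hPair (Additive V) (Additive D) φ ψ
    (fun x => Additive.toMul.injective (Subtype.ext (hVsq _ (x.toMul : V).2)))
    (fun x => Additive.toMul.injective (Subtype.ext (hD2 _ (x.toMul : D).2))) hφ hψ β
    (fun q x y => by
      obtain ⟨g, hg⟩ := QuotientGroup.mk_surjective (e.symm q)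
      refine Additive.toMul.injective (Subtype.ext ?_)
      show ⁅π (lift (φ q x)), π (lift (φ q y))⁆ = (((secRep P π D hcent1 (e.symm q) (β x y)).toMul : D) : G ⧸ R)
      rw [← hg, secRep_val]
      show _ = π g * ⁅π (lift x), π (lift y)⁆ * (π g)⁻¹
      have hl : ∀ z, π' (lift (φ q z)) = π' (g * lift z * g⁻¹) := fun z => by
        rw [hlift, map_mul, map_mul, map_inv, hlift]
        show (((secRep P π' V hcent2 (e.symm q) z).toMul : V) : G ⧸ R') = _
        rw [← hg, secRep_val]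
      rw [hwd (hliftP _) ((inferInstance : P.Normal).conj_mem _ (hliftP x) g) (hliftP _)
        ((inferInstance : P.Normal).conj_mem _ (hliftP y) g) (hl x) (hl y), conj_comm]
      simp only [map_mul, map_inv])
    (fun x => Additive.toMul.injective (Subtype.ext (commutatorElement_self _)))
  refine hab ?_
  have h := congrArg (fun z : Additive D => ((z.toMul : D) : G ⧸ R))
    (DFunLike.congr_fun (DFunLike.congr_fun h0 (Additive.ofMul ⟨π' a, a, ha, rfl⟩))
      (Additive.ofMul ⟨π' b, b, hb, rfl⟩))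
  change ⁅π (lift _), π (lift _)⁆ = 1 at h
  rw [hwd (hliftP _) ha (hliftP _) hb (hlift _) (hlift _), ← map_commutatorElement] at h
  exact (QuotientGroup.eq_one_iff _).mp h

/-- The normal two-subgroup is elementary abelian. -/
theorem elementary {Q : Type} [Group Q] (hC : CIT.IsCIT G) (hP : IsPGroup 2 P) (e : G ⧸ P ≃* Q)
    (hPair : NoPair.{0, u} Q) (hFour : NoFour.{0, u} Q) :
    (∀ a ∈ P, ∀ b ∈ P, a * b = b * a) ∧ ∀ a ∈ P, a * a = 1 := by
  have hab := abelian hC hP e hPair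
  refine ⟨hab, ?_⟩
  let A : Subgroup G :=
    { carrier := {x | x ∈ P ∧ x ^ 4 = 1}
      one_mem' := ⟨one_mem P, one_pow 4⟩
      mul_mem' := fun {x y} hx hy => ⟨mul_mem hx.1 hy.1, by
        rw [(show Commute x y from hab x hx.1 y hy.1).mul_pow, hx.2, hy.2, one_mul]⟩
      inv_mem' := fun {x} hx => ⟨inv_mem hx.1, by rw [inv_pow, hx.2, inv_one]⟩ }
  haveI : A.Normal := ⟨fun x hx g => ⟨(inferInstance : P.Normal).conj_mem x hx.1 g, by
    rw [conj_pow, hx.2, mul_one, mul_inv_cancel]⟩⟩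
  haveI : IsMulCommutative A := ⟨⟨fun x y => Subtype.ext (hab x x.2.1 y y.2.1)⟩⟩
  have hcent : ∀ p ∈ P, ∀ v ∈ A, MonoidHom.id G p * v = v * MonoidHom.id G p := fun p hp v hv => hab p hp v hv.1
  have hφ : AFpf ((secRep P (MonoidHom.id G) A hcent).comp e.symm.toMonoidHom) :=
    (afpf_secRep P (MonoidHom.id G) A hcent hC (hP.to_le fun x hx => hx.1) (by rw [show (MonoidHom.id G).ker = ⊥ from (MonoidHom.ker_eq_bot_iff _).mpr fun _ _ h => h]; exact bot_le)).comp
      e.symm.toMonoidHom e.symm.injective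
  have h2 := hFour (Additive A) _ (fun x => Additive.toMul.injective (Subtype.ext (x.toMul : A).2.2)) hφ
  have key : ∀ k : ℕ, ∀ x ∈ P, x ^ 2 ^ (k + 1) = 1 → x ^ 2 = 1 := by
    intro k
    induction k with
    | zero => intro x _ h; simpa using h
    | succ k ih =>
      intro x hx h
      have h4 : x ^ 4 = 1 := by
        have := ih (x ^ 2) (pow_mem hx 2) (by rw [← pow_mul, ← pow_succ']; exact h)
        rw [← pow_mul] at this
        exact this
      exact congrArg Subtype.val (congrArg Additive.toMul (h2 (Additive.ofMul ⟨x, hx, h4⟩)))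
  intro x hx
  obtain ⟨k, hk⟩ := hP ⟨x, hx⟩
  have hk' : x ^ 2 ^ (k + 1) = 1 := by rw [pow_succ, pow_mul, show x ^ 2 ^ k = 1 from congrArg Subtype.val hk, one_pow]
  rw [← sq]
  exact key k x hx hk'

end CfsgLib.CITExt
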