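import Cfsg.Agent.Lib.CITExt.Module
import Cfsg.Agent.Lib.HigmanSL2

/-!
A two-dimensional special linear group in even characteristic with at least four field elements has neither a non-zero
equivariant alternating map between fixed-point-free modules of exponent two nor such a module of exponent four.
-/

set_option autoImplicit false
set_option linter.unusedSectionVars false
set_option linter.style.haveILetI false

namespace CfsgLib.CITExt

open CfsgLib.SL2Pair (up lo)
open CfsgLib.Higman (C)

universe v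

variable {K : Type} [Field K] [Finite K] [CharP K 2]

local notation "SL2" => Matrix.SpecialLinearGroup (Fin 2) K

theorem upLo_three {a c : K} (h : a * c = 1) : (up a * lo c : SL2) ^ 3 = 1 := by
  apply Subtype.ext
  have h2 : (1 : K) + 1 = 0 := CharTwo.add_self_eq_zero 1
  rw [pow_succ, sq]
  simp only [Matrix.SpecialLinearGroup.coe_mul, Matrix.SpecialLinearGroup.coe_one]
  show !![1, a; 0, 1] * !![1, 0; c, 1] * (!![1, a; 0, 1] * !![1, 0; c, 1]) * (!![1, a; 0, 1] * !![1, 0; c, 1]) = 1
  simp only [Matrix.mul_fin_two, Matrix.one_fin_two]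
  have hc : c * a = 1 := by rw [mul_comm]; exact h
  ext i j
  fin_cases i <;> fin_cases j <;> simp [h, h2, hc, CharTwo.add_self_eq_zero]

theorem loUp_three {a c : K} (h : a * c = 1) : (lo c * up a : SL2) ^ 3 = 1 := by
  have e : (lo c * up a : SL2) = (up a)⁻¹ * (up a * lo c) * ((up a)⁻¹)⁻¹ := by group
  rw [e, conj_pow, upLo_three h, mul_one, mul_inv_cancel]

variable {A : Type v} [AddCommGroup A]

theorem cubic {φ : SL2 →* AddMonoid.End A} (hφ : AFpf φ) {g : SL2} (hg : g ^ 3 = 1) (hg1 : g ≠ 1) :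
    φ g * φ g + φ g + 1 = 0 := by
  haveI : Fact (Nat.Prime 3) := ⟨Nat.prime_three⟩
  refine AddMonoidHom.ext fun x => hφ g hg1 (by rw [orderOf_eq_prime hg hg1]; decide) _ ?_
  have h3 : φ g * (φ g * φ g) = 1 := by rw [← map_mul, ← map_mul, ← mul_assoc, ← sq, ← pow_succ, hg, map_one]
  show (φ g * (φ g * φ g + φ g + 1)) x = _
  rw [mul_add, mul_add, h3, mul_one]
  congr 1
  abel

theorem ne_one_of_conj {g u : SL2} (hu : u * u = 1) (h : u * g * u = 1) : g = 1 := by
  calc g = (u * u) * g * (u * u) := by rw [hu, one_mul, mul_one]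
    _ = u * (u * g * u) * u := by group
    _ = 1 := by rw [h, mul_one, hu]

theorem upLo_ne {a c : K} (ha : a ≠ 0) : (up a * lo c : SL2) ≠ 1 := by
  intro h
  have h1 := congrFun (congrFun (congrArg Subtype.val h) 0) 1
  change (!![1, a; 0, 1] * !![1, 0; c, 1]) 0 1 = (1 : Matrix (Fin 2) (Fin 2) K) 0 1 at h1
  simp [ha] at h1

theorem loUp_ne {a c : K} (ha : a ≠ 0) : (lo c * up a : SL2) ≠ 1 := by
  intro h
  have h1 := congrFun (congrFun (congrArg Subtype.val h) 0) 1
  change (!![1, 0; c, 1] * !![1, a; 0, 1]) 0 1 = (1 : Matrix (Fin 2) (Fin 2) K) 0 1 at h1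
  simp [ha] at h1

theorem conj_expand {R : Type*} [Ring R] (h2 : ∀ x : R, x + x = 0) {N M : R} (hN : N * N = 0)
    (hNM : N * M + M * N = 1) (B : K →+* R) (hB : ∀ a, C N M (B a)) {a b c : K} (hac : a * c = 1) :
    (1 + B b * N) * ((1 + B a * N) * (1 + B c * M)) * (1 + B b * N) =
      (1 + B a * N) * (1 + B c * M) + (B (b * c) + B (b + b * b * c) * N) := by
  have hnmn := Higman.nmn hN hNM
  have hxN : ∀ x y, N * (B x * y) = B x * (N * y) := fun x y => by rw [← mul_assoc, ← (hB x).1.eq, mul_assoc]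
  have hxM : ∀ x y, M * (B x * y) = B x * (M * y) := fun x y => by rw [← mul_assoc, ← (hB x).2.eq, mul_assoc]
  have hBB : ∀ x y (z : R), B x * (B y * z) = B (x * y) * z := fun x y z => by rw [map_mul, mul_assoc]
  have hMNM : ∀ z, N * (M * (N * z)) = N * z := fun z => by rw [← mul_assoc, ← mul_assoc, hnmn]
  have hNMN : N * (M * N) = N := by rw [← mul_assoc, hnmn]
  have hNN : ∀ z, N * (N * z) = 0 := fun z => by rw [← mul_assoc, hN, zero_mul]
  have hac' : ∀ z, B (a * c) * z = z := fun z => by rw [hac, map_one, one_mul]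
  have e : B (b * c) = B (b * c) * (N * M) + B (b * c) * (M * N) := by rw [← mul_add, hNM, mul_one]
  conv_rhs => rw [map_add, e]
  simp only [mul_add, add_mul, mul_one, one_mul, mul_assoc, hxN, hxM, hBB, hN, mul_zero, add_zero, hac',
    hNMN, hNN, mul_comm c b]
  rw [← sub_eq_zero]
  refine Eq.trans ?_ (h2 (B b * N))
  abel_nf

/-- Fixed-point-free modules of exponent dividing four have exponent two. -/
theorem noFour (hK : 4 ≤ Nat.card K) : NoFour.{0, v} SL2 := by
  intro A _ _ φ h4 hφ x
  obtain ⟨t, ht0, ht1⟩ : ∃ t : K, t ≠ 0 ∧ t ≠ 1 := by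
    classical
    haveI := Fintype.ofFinite K
    have h : ({0, 1} : Finset K).card < (Finset.univ : Finset K).card := by
      rw [Finset.card_univ, ← Nat.card_eq_fintype_card]
      exact lt_of_le_of_lt Finset.card_le_two (by omega)
    obtain ⟨t, -, ht⟩ := Finset.exists_mem_notMem_of_card_lt_card h
    simp only [Finset.mem_insert, Finset.mem_singleton, not_or] at ht
    exact ⟨t, ht⟩
  exact Higman.exp_two φ h4 (fun a ha => cubic hφ (upLo_three (mul_inv_cancel₀ ha)) (upLo_ne ha)) ht0 ht1 x

/-- Equivariant alternating maps of fixed-point-free modules of exponent two vanish. -/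
theorem noPair (hK : 4 ≤ Nat.card K) : NoPair.{0, v} SL2 := by
  intro V W _ _ _ _ φ ψ hV hW hφ hψ β hβ hβ0
  have hsym : ∀ x y, β x y = β y x := by
    intro x y
    have h := hβ0 (x + y)
    simp only [map_add, AddMonoidHom.add_apply, hβ0, zero_add, add_zero] at h
    exact (eq_neg_of_add_eq_zero_left h).trans (neg_eq_of_add_eq_zero_left (hW _)) |>.symm
  -- elements of order three are self-adjoint
  have horb : ∀ g : SL2, g ^ 3 = 1 → g ≠ 1 → ∀ x y, β (φ g x) y = β x (φ g y) := by
    intro g hg hg1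
    have hsq : ∀ x, φ g (φ g x) = φ g x + x := fun x => by
      have h : φ g (φ g x) + φ g x + x = 0 := DFunLike.congr_fun (cubic hφ hg hg1) x
      rw [add_assoc] at h
      exact (eq_neg_of_add_eq_zero_left h).trans (neg_eq_of_add_eq_zero_left (hV _))
    have h0 : ∀ x, β x (φ g x) = 0 := fun x => by
      haveI : Fact (Nat.Prime 3) := ⟨Nat.prime_three⟩
      refine hψ g hg1 (by rw [orderOf_eq_prime hg hg1]; decide) _ ?_
      rw [← hβ, hsq, map_add, hβ0, zero_add, hsym]
    intro x y
    have h := h0 (x + y)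
    simp only [map_add, AddMonoidHom.add_apply, h0, zero_add, add_zero] at h
    rw [hsym (φ g x) y]
    exact (eq_neg_of_add_eq_zero_left h).trans (neg_eq_of_add_eq_zero_left (hW _))
  have h2 : ∀ X : AddMonoid.End V, X + X = 0 := fun X => AddMonoidHom.ext fun x => hV _
  obtain ⟨N, M, B, hN, hM, hNM, hB, hup, hlo⟩ := Higman.natural h2 φ fun a ha => by
    rw [Higman.rel_of_cubic φ (fun b hb => cubic hφ (upLo_three (mul_inv_cancel₀ hb)) (upLo_ne hb)) ha,
      sub_eq_add_neg, neg_eq_of_add_eq_zero_left (h2 _), neg_eq_of_add_eq_zero_left (h2 _)]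
  -- the additive set of self-adjoint endomorphisms
  let S : AddSubgroup (AddMonoid.End V) :=
    { carrier := {T | ∀ x y, β (T x) y = β x (T y)}
      zero_mem' := fun x y => by simp [AddMonoid.End.zero_apply]
      add_mem' := fun {S T} hS hT x y => by
        show β (S x + T x) y = β x (S y + T y)
        rw [map_add, map_add, AddMonoidHom.add_apply, hS, hT]
      neg_mem' := fun {S} hS x y => by
        show β (-(S x)) y = β x (-(S y))
        rw [map_neg, map_neg, AddMonoidHom.neg_apply, hS] }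
  have h1S : (1 : AddMonoid.End V) ∈ S := fun x y => rfl
  have conj_mem : ∀ g u : SL2, g ^ 3 = 1 → g ≠ 1 → u * u = 1 → φ (u * g * u) ∈ S := fun g u hg hg1 hu =>
    horb _ (by
      have hui : u⁻¹ = u := inv_eq_of_mul_eq_one_right hu
      rw [show u * g * u = u * g * u⁻¹ by rw [hui], conj_pow, hg, mul_one, mul_inv_cancel])
      fun h => hg1 (ne_one_of_conj hu h)
  have huu : ∀ b : K, (up b : SL2) * up b = 1 := fun b => by
    rw [Higman.up_mul, CharTwo.add_self_eq_zero, Higman.up_zero]
  have hll : ∀ b : K, (lo b : SL2) * lo b = 1 := fun b => by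
    rw [Higman.lo_mul, CharTwo.add_self_eq_zero, Higman.lo_zero]
  have hXN : ∀ a b c : K, a * c = 1 → B (b * c) + B (b + b * b * c) * N ∈ S := fun a b c h => by
    have hd : φ (up a * lo c) ∈ S := horb _ (upLo_three h) (upLo_ne (left_ne_zero_of_mul_eq_one h))
    have hc := conj_mem _ _ (upLo_three h) (upLo_ne (c := c) (left_ne_zero_of_mul_eq_one h)) (huu b)
    rw [map_mul, map_mul, map_mul, hup, hup, hlo, conj_expand h2 hN hNM B hB h] at hc
    rw [map_mul, hup, hlo] at hd
    exact (S.add_mem_cancel_left hd).mp hc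
  have hXM : ∀ a b c : K, a * c = 1 → B (b * c) + B (b + b * b * c) * M ∈ S := fun a b c h => by
    have hd : φ (lo a * up c) ∈ S := horb _ (loUp_three (by rw [mul_comm]; exact h))
      (loUp_ne (right_ne_zero_of_mul_eq_one h))
    have hc := conj_mem _ _ (loUp_three (a := c) (c := a) (by rw [mul_comm]; exact h))
      (loUp_ne (c := a) (right_ne_zero_of_mul_eq_one h)) (hll b)
    rw [map_mul, map_mul, map_mul, hlo, hlo, hup,
      conj_expand h2 hM (by rw [add_comm]; exact hNM) B (fun a => ⟨(hB a).2, (hB a).1⟩) h] at hc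
    rw [map_mul, hlo, hup] at hd
    exact (S.add_mem_cancel_left hd).mp hc
  obtain ⟨t, ht0, ht1⟩ : ∃ t : K, t ≠ 0 ∧ t ≠ 1 := by
    classical
    haveI := Fintype.ofFinite K
    have h : ({0, 1} : Finset K).card < (Finset.univ : Finset K).card := by
      rw [Finset.card_univ, ← Nat.card_eq_fintype_card]
      exact lt_of_le_of_lt Finset.card_le_two (by omega)
    obtain ⟨t, -, ht⟩ := Finset.exists_mem_notMem_of_card_lt_card h
    simp only [Finset.mem_insert, Finset.mem_singleton, not_or] at ht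
    exact ⟨t, ht⟩
  have hs : t + t * t ≠ 0 := by
    rw [show t + t * t = t * (1 + t) by ring]
    exact mul_ne_zero ht0 fun h => ht1 ((CharTwo.add_eq_zero.mp h).symm)
  have hall : ∀ (Y : AddMonoid.End V), (∀ a b c : K, a * c = 1 → B (b * c) + B (b + b * b * c) * Y ∈ S) →
      ∀ w : K, B w * Y ∈ S := by
    intro Y hY w
    have hu : ∀ u : K, u ≠ 0 → B t + B (u * (t + t * t)) * Y ∈ S := fun u hu => by
      have h := hY u (t * u) u⁻¹ (mul_inv_cancel₀ hu)
      rwa [show t * u * u⁻¹ = t by rw [mul_assoc, mul_inv_cancel₀ hu, mul_one],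
        show t * u + t * u * (t * u) * u⁻¹ = u * (t + t * t) by field_simp] at h
    set w' := w / (t + t * t) with hw'
    obtain ⟨u, hu0, huw⟩ : ∃ u : K, u ≠ 0 ∧ u + w' ≠ 0 := by
      by_cases h : w' = 1
      · exact ⟨t, ht0, fun e => ht1 (by rw [h] at e; exact CharTwo.add_eq_zero.mp e)⟩
      · exact ⟨1, one_ne_zero, fun e => h (CharTwo.add_eq_zero.mp e).symm⟩
    have h := S.add_mem (hu u hu0) (hu (u + w') huw)
    rw [add_add_add_comm, h2, zero_add, ← add_mul, ← map_add, ← add_mul,
      show u + (u + w') = w' by rw [← add_assoc, CharTwo.add_self_eq_zero, zero_add],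
      hw', div_mul_cancel₀ _ hs] at h
    exact h
  have hNS := hall N hXN
  have hMS := hall M hXM
  have hN1 : N ∈ S := by simpa using hNS 1
  have hM1 : M ∈ S := by simpa using hMS 1
  have hNMS : N * M ∈ S := by
    have hd : φ (up 1 * lo 1) ∈ S := horb _ (upLo_three (one_mul 1)) (upLo_ne one_ne_zero)
    rw [map_mul, hup, hlo, map_one, one_mul, one_mul] at hd
    have e : N * M = (1 + N) * (1 + M) - 1 - N - M := by noncomm_ring
    rw [e]
    exact S.sub_mem (S.sub_mem (S.sub_mem hd h1S) hN1) hM1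
  refine AddMonoidHom.ext fun x => AddMonoidHom.ext fun y => ?_
  show β x y = 0
  have hy : (N * M) y + (M * N) y = y := DFunLike.congr_fun hNM y
  have e1 : β x ((N * M) y) = β ((N * M) x) y := (hNMS x y).symm
  have e2 : β x ((M * N) y) = β ((N * M) x) y := by
    show β x (M (N y)) = β (N (M x)) y
    rw [← hM1 x (N y), ← hN1 (M x) y]
  rw [← hy, map_add, e1, e2]
  exact hW _

end CfsgLib.CITExt
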