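import Mathlib

/-!
Additive actions in which the non-trivial elements of odd order fix only zero, and the two properties of a group used
to bound a normal two-subgroup on which it acts in this way.
-/

set_option autoImplicit false

namespace CfsgLib.CITExt

universe u v

/-- Non-trivial elements of odd order fix only zero. -/
def AFpf {Q : Type u} [Monoid Q] {A : Type v} [AddCommGroup A] (φ : Q →* AddMonoid.End A) : Prop :=
  ∀ g, g ≠ 1 → Odd (orderOf g) → ∀ x, φ g x = x → x = 0

/-- Equivariant alternating maps of such modules of exponent two vanish. -/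
def NoPair (Q : Type u) [Group Q] : Prop :=
  ∀ (V W : Type v) [AddCommGroup V] [AddCommGroup W] [Finite V] [Finite W]
    (φ : Q →* AddMonoid.End V) (ψ : Q →* AddMonoid.End W),
    (∀ x : V, x + x = 0) → (∀ x : W, x + x = 0) → AFpf φ → AFpf ψ →
    ∀ β : V →+ V →+ W, (∀ g x y, β (φ g x) (φ g y) = ψ g (β x y)) → (∀ x, β x x = 0) → β = 0

/-- Such modules of exponent dividing four have exponent two. -/
def NoFour (Q : Type u) [Group Q] : Prop :=
  ∀ (A : Type v) [AddCommGroup A] [Finite A] (φ : Q →* AddMonoid.End A),
    (∀ x : A, 4 • x = 0) → AFpf φ → ∀ x : A, 2 • x = 0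

universe w

variable {Q : Type u} [Group Q] {Q' : Type w} [Group Q']

theorem AFpf.comp {A : Type v} [AddCommGroup A] {φ : Q →* AddMonoid.End A} (h : AFpf φ) (e : Q' →* Q)
    (he : Function.Injective e) : AFpf (φ.comp e) := fun g hg ho x hx =>
  h (e g) (fun h1 => hg (he (by rw [h1, map_one]))) (by rw [orderOf_injective e he]; exact ho) x hx

end CfsgLib.CITExt
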