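import Cfsg.Agent.Lib.CITExt.OddLin
import Cfsg.Agent.Lib.CITExt.L34
import Cfsg.Agent.Lib.CITExt.SL2
import Cfsg.Agent.Lib.CITExt.Sz.Additive
import Cfsg.Agent.Lib.CITExt.Reduce
import Cfsg.Agent.Lib.CIT.Main
import Cfsg.Agent.Lib.SuzukiUnique.CIT
import Cfsg.Agent.Lib.Suzuki.Lie

/-!
The structure of insoluble groups with nilpotent centralisers.
-/

set_option autoImplicit false
set_option linter.unusedSectionVars false
set_option linter.style.haveILetI false

namespace CfsgLib.CITExt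

open Subgroup Cfsg

universe u

variable {G : Type u} [Group G] [Finite G]

/-- The possibilities. -/
def Structure (G : Type u) [Group G] : Prop :=
  (IsSimpleGroup G ∧ ¬ IsMulCommutative G) ∨
    (∃ (N : Subgroup G), N.Normal ∧ N.index = 2 ∧ ∃ (F : Type) (_ : Field F) (_ : Fintype F), Fintype.card F = 9 ∧
        Nonempty (N ≃* Matrix.ProjectiveSpecialLinearGroup (Fin 2) F)) ∨
    (∃ (N : Subgroup G) (_ : N.Normal), N ≠ ⊥ ∧ IsPGroup 2 N ∧ IsMulCommutative N ∧ (∀ x ∈ N, x * x = 1) ∧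
        ((∃ (F : Type) (_ : Field F) (_ : Fintype F), CharP F 2 ∧ 4 ≤ Fintype.card F ∧
            Nonempty (G ⧸ N ≃* Matrix.ProjectiveSpecialLinearGroup (Fin 2) F)) ∨ Cfsg.IsSuzuki (G ⧸ N)))

theorem structure_of_core (hCN : IsCNGroup G) (hns : ¬ Group.IsSolvable G) (h2 : pCore 2 G ≠ ⊥) : Structure G := by
  have hC := cit_of_core hCN hns h2
  have hP2 : IsPGroup 2 (pCore 2 G) := CfsgLib.isPGroup_pCore 2
  have hQ := hC.quot
  have hnsQ : ¬ Group.IsSolvable (CIT.Qt G) := by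
    intro h
    haveI := h
    haveI := Fact.mk Nat.prime_two
    haveI := hP2.isNilpotent
    exact hns ((Group.isSolvable_iff_subgroup_quotient (pCore 2 G)).mpr ⟨inferInstance, inferInstance⟩)
  obtain ⟨N, hNn, hNs, hNc⟩ := CITQuot.exists_simple hQ hnsQ CIT.pCore_qt
  haveI := hNs
  have hne : ∃ a b : N, a * b ≠ b * a := by
    by_contra hh
    push Not at hh
    exact hNc ⟨⟨hh⟩⟩
  haveI := CIT.qMod_nontrivial h2
  have M := (CIT.qMod hC).comap N.subtype N.subtype_injective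
  rcases CIT.classification hne (hQ.subgroup N) with ⟨hTI, htype⟩ | hbad | hbad
  · have htop := CIT.eq_top_of_ti hQ N hne hTI htype
    let e : N ≃* CIT.Qt G := (MulEquiv.subgroupCongr htop).trans Subgroup.topEquiv
    have key : (∀ a ∈ pCore 2 G, ∀ b ∈ pCore 2 G, a * b = b * a) → (∀ a ∈ pCore 2 G, a * a = 1) →
        ((∃ (F : Type) (_ : Field F) (_ : Fintype F), CharP F 2 ∧ 4 ≤ Fintype.card F ∧
          Nonempty (G ⧸ pCore 2 G ≃* Matrix.ProjectiveSpecialLinearGroup (Fin 2) F)) ∨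
          Cfsg.IsSuzuki (G ⧸ pCore 2 G)) → Structure G := fun hab hsq h =>
      Or.inr (Or.inr ⟨pCore 2 G, inferInstance, h2, hP2, ⟨⟨fun a b => Subtype.ext (hab a a.2 b b.2)⟩⟩, hsq, h⟩)
    rcases htype with hlin | hsuz
    · obtain ⟨F, iF, iFt, n, hn, hF, ⟨e'⟩⟩ := hlin
      haveI : CharP F 2 := charP_of_card_eq_prime_pow (p := 2) (f := n) hF
      have h4 : 4 ≤ Fintype.card F := by
        rw [hF]
        calc 4 = 2 ^ 2 := rfl
          _ ≤ 2 ^ n := Nat.pow_le_pow_right (by norm_num) hn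
      have h4' : 4 ≤ Nat.card F := by rwa [Nat.card_eq_fintype_card]
      obtain ⟨hab, hsq⟩ := elementary hC hP2 ((e.symm.trans e').trans CfsgLib.PrimeGraphExt.pslEquiv)
        (noPair h4') (noFour h4')
      exact key hab hsq (Or.inl ⟨F, iF, iFt, inferInstance, h4, ⟨e.symm.trans e'⟩⟩)
    · obtain ⟨F, iF, iFt, m, hm, hF, hc, ⟨e'⟩⟩ := SuzukiUnique.exists_equiv_of_suzType hne (hQ.subgroup N) hTI hsuz
      obtain ⟨hab, hsq⟩ := elementary hC hP2 ((e.symm.trans e').trans (Suzuki.lieEquiv hF hm).symm)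
        (Sz.noPair hF hm) (Sz.noFour hF hm)
      haveI : IsSimpleGroup (CIT.Qt G) := e.symm.isSimpleGroup
      refine key hab hsq (Or.inr ⟨inferInstanceAs (IsSimpleGroup (CIT.Qt G)), m, hm, ?_⟩)
      rw [← hc]
      exact Nat.card_congr e.toEquiv.symm
  · exact (M.no_oddLin hbad).elim
  · exact (M.no_L34 hbad).elim

theorem structure_of_trivial_core (hCN : IsCNGroup G) (hns : ¬ Group.IsSolvable G) (h2 : pCore 2 G = ⊥) :
    Structure G := by
  obtain ⟨M, hMn, hMs, hne, hC⟩ := exists_socle hCN hns h2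
  haveI := hMs
  have hsimp : M = ⊤ → Structure G := by
    intro htop
    let e : M ≃* G := (MulEquiv.subgroupCongr htop).trans Subgroup.topEquiv
    refine Or.inl ⟨e.symm.isSimpleGroup, fun hc => ?_⟩
    obtain ⟨a, b, hab⟩ := hne
    exact hab (e.injective (by rw [map_mul, map_mul]; exact hc.is_comm.comm (e a) (e b)))
  have hMC : CIT.IsCIT M := CITUse.cn_cit hne (CN.isCN_subgroup hCN M)
  rcases CIT.classification hne hMC with ⟨hTI, htype⟩ | ⟨F, iF, iFt, hF, ⟨e⟩⟩ | ⟨F, iF, iFt, hF, ⟨e⟩⟩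
  · exact hsimp (eq_top_ti hCN M hne hTI htype)
  · rcases hF with h9 | ⟨h7, hp, -⟩
    · rcases nine hCN M e h9 hC with h | h
      · exact hsimp h
      · exact Or.inr (Or.inl ⟨M, hMn, h, F, iF, iFt, h9, ⟨e⟩⟩)
    · exact hsimp (prime_field hCN M hne e hp h7 hC)
  · exact hsimp (eq_top_L34 hCN M hne e hF)

theorem structure_of_cn (hCN : IsCNGroup G) (hns : ¬ Group.IsSolvable G) : Structure G := by
  by_cases h2 : pCore 2 G = ⊥
  · exact structure_of_trivial_core hCN hns h2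
  · exact structure_of_core hCN hns h2

end CfsgLib.CITExt
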