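import Cfsg.Agent.Lib.CITExt.CNBasic
import Cfsg.Agent.Lib.PSL2.Out
import Cfsg.Agent.Lib.SLCard

/-!
Groups with nilpotent centralisers over a socle `PSL₂` in odd characteristic.
-/

set_option autoImplicit false
set_option linter.unusedSectionVars false
set_option linter.style.haveILetI false

namespace CfsgLib.CITExt

open Subgroup Cfsg Matrix
open CfsgLib.CN (commute_of_mem_centralizer)

universe u

variable {G : Type u} [Group G] [Finite G] {F : Type} [Field F] [Fintype F]

local notation "SL" => Matrix.SpecialLinearGroup (Fin 2) F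
local notation "PSL" => Matrix.ProjectiveSpecialLinearGroup (Fin 2) F

/-- Conjugation on a normal subgroup, read through an isomorphism. -/
def socleAut (M : Subgroup G) [M.Normal] (e : M ≃* PSL) : G →* MulAut PSL :=
  (MulAut.congr e).toMonoidHom.comp (MulAut.conjNormal (H := M))

theorem socleAut_apply (M : Subgroup G) [M.Normal] (e : M ≃* PSL) (g : G) (m : M) :
    socleAut M e g (e m) = e ⟨g * m * g⁻¹, (inferInstance : M.Normal).conj_mem m m.2 g⟩ := by
  show e (MulAut.conjNormal g (e.symm (e m))) = _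
  rw [e.symm_apply_apply]
  congr 1

theorem socleAut_injective (M : Subgroup G) [M.Normal] (e : M ≃* PSL)
    (hC : ∀ c : G, (∀ m ∈ M, c * m = m * c) → c = 1) : Function.Injective (socleAut M e) := by
  rw [injective_iff_map_eq_one]
  intro g hg
  refine hC g fun m hm => mul_inv_eq_iff_eq_mul.mp ?_
  have h := socleAut_apply M e g ⟨m, hm⟩
  rw [hg, MulAut.one_apply] at h
  exact (congrArg Subtype.val (e.injective h)).symm

theorem socleAut_coe (M : Subgroup G) [M.Normal] (e : M ≃* PSL) (m : M) :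
    socleAut M e m = MulAut.conj (e m) := by
  ext x
  obtain ⟨n, rfl⟩ := e.surjective x
  rw [socleAut_apply, MulAut.conj_apply, ← map_inv, ← map_mul, ← map_mul]
  rfl

theorem commute_of_socleAut_fix (M : Subgroup G) [M.Normal] (e : M ≃* PSL) {y : G} {z : PSL}
    (h : socleAut M e y z = z) : y * (e.symm z : G) = (e.symm z : G) * y := by
  have h1 := socleAut_apply M e y (e.symm z)
  rw [e.apply_symm_apply, h] at h1
  have h2 := congrArg (fun w : M => (w : G)) (e.symm_apply_eq.mpr h1)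
  exact (mul_inv_eq_iff_eq_mul.mp h2.symm)

/-- A diagonal automorphism with square determinant is inner. -/
theorem inner_of_det_sq (g : GL (Fin 2) F)
    (h : GeneralLinearGroup.det g ∈ (powMonoidHom 2 : Fˣ →* Fˣ).range) :
    ∃ z : PSL, PSL2.diagAut g = MulAut.conj z := by
  obtain ⟨c, A, rfl⟩ := PSL2.exists_dil_mul g
  have hc : GeneralLinearGroup.det (PSL2.dil c * SpecialLinearGroup.toGL A) = c := by
    ext
    have hA : (A.1).det = 1 := A.2
    simp [PSL2.dil, Matrix.det_mul, Matrix.det_fin_two_of, hA]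
  rw [hc] at h
  obtain ⟨x, hx⟩ := (PSL2.dil_inner_iff c).mpr h
  exact ⟨x * PSL2.mk A, by rw [map_mul, hx, PSL2.diagAut_toGL, map_mul]⟩

/-- The product of two non-squares is a square. -/
theorem mul_mem_squares {a b : Fˣ} (ha : a ∉ (powMonoidHom 2 : Fˣ →* Fˣ).range)
    (hb : b ∉ (powMonoidHom 2 : Fˣ →* Fˣ).range) : a * b ∈ (powMonoidHom 2 : Fˣ →* Fˣ).range := by
  obtain ⟨γ, hγ⟩ := IsCyclic.exists_generator (α := Fˣ)
  have key : ∀ x : Fˣ, x ∉ (powMonoidHom 2 : Fˣ →* Fˣ).range → ∃ j : ℤ, x = γ ^ (2 * j + 1) := by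
    intro x hx
    obtain ⟨i, rfl⟩ := mem_zpowers_iff.mp (hγ x)
    rcases Int.even_or_odd i with ⟨j, rfl⟩ | ⟨j, rfl⟩
    · exact absurd ⟨γ ^ j, by rw [powMonoidHom_apply, sq, ← _root_.zpow_add]⟩ hx
    · exact ⟨j, rfl⟩
  obtain ⟨i, rfl⟩ := key a ha
  obtain ⟨j, rfl⟩ := key b hb
  exact ⟨γ ^ (i + j + 1), by rw [powMonoidHom_apply, sq, ← _root_.zpow_add, ← _root_.zpow_add]; congr 1; ring⟩

theorem map_mem_squares (σ : F ≃+* F) {a : Fˣ}
    (ha : Units.map σ.toRingHom.toMonoidHom a ∈ (powMonoidHom 2 : Fˣ →* Fˣ).range) :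
    a ∈ (powMonoidHom 2 : Fˣ →* Fˣ).range := by
  obtain ⟨d, hd⟩ := ha
  refine ⟨Units.map σ.symm.toRingHom.toMonoidHom d, Units.ext ?_⟩
  have h := congrArg (fun v : Fˣ => σ.symm (v : F)) hd
  simpa [pow_two] using h

/-- Over nine elements the socle has index at most two. -/
theorem nine (hCN : IsCNGroup G) (M : Subgroup G) [M.Normal] (e : M ≃* PSL) (h9 : Fintype.card F = 9)
    (hC : ∀ c : G, (∀ m ∈ M, c * m = m * c) → c = 1) : M = ⊤ ∨ M.index = 2 := by
  classical
  haveI : Fact (Nat.Prime 3) := ⟨Nat.prime_three⟩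
  haveI : CharP F 3 := charP_of_card_eq_prime_pow (f := 2) (by rw [h9]; norm_num)
  haveI : Finite PSL := Quotient.finite _
  set Φ := socleAut M e with hΦ
  have hinj : Function.Injective Φ := socleAut_injective M e hC
  have hA : ∀ g : G, ∀ (z : PSL) (σ : F ≃+* F), Φ g = MulAut.conj z * PSL2.fieldAut σ → g ∈ M := by
    intro g z σ hg
    set m : M := e.symm z with hm
    set y : G := (m : G)⁻¹ * g with hy
    have hym : Φ y = PSL2.fieldAut σ := by
      rw [hy, map_mul, map_inv, hg, hΦ, socleAut_coe, hm, e.apply_symm_apply, inv_mul_cancel_left]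
    suffices y = 1 by
      exact (inv_mul_eq_one.mp this) ▸ m.2
    by_contra hy1
    set u : G := (e.symm (PSL2.uu (1 : F)) : G) with hu
    set v : G := (e.symm (PSL2.vv (1 : F)) : G) with hv
    have hyu : y * u = u * y := commute_of_socleAut_fix M e (by
      show Φ y _ = _
      rw [hym, PSL2.fieldAut_uu, map_one])
    have hyv : y * v = v * y := commute_of_socleAut_fix M e (by
      show Φ y _ = _
      rw [hym, PSL2.fieldAut_vv, map_one])
    have h30 : (3 : F) = 0 := by exact_mod_cast CharP.cast_eq_zero F 3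
    have hu3 : u ^ 3 = 1 := by
      rw [hu, ← Subgroup.coe_pow, ← map_pow]
      show ((e.symm ((PSL2.uHom (Multiplicative.ofAdd (1 : F))) ^ 3) : M) : G) = 1
      rw [← map_pow, ← ofAdd_nsmul, nsmul_one, CharP.cast_eq_zero, ofAdd_zero, map_one, map_one, Subgroup.coe_one]
    have hne : u ≠ 1 := fun h => one_ne_zero (PSL2.uu_injective (F := F) (by
      have h' : e.symm (PSL2.uu (1 : F)) = 1 := Subtype.ext h
      rw [e.symm.map_eq_one_iff.mp h', PSL2.uu, ofAdd_zero, map_one]))
    have huv2 : (u * v) ^ 2 = 1 ∧ u * v ≠ 1 := by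
      have hmk : (PSL2.uu (1 : F)) * PSL2.vv 1 = PSL2.mk (PSL2.uSL 1 * PSL2.vSL 1) := by
        rw [PSL2.uu_eq, PSL2.vv_eq, map_mul]
      have h2 : (PSL2.uu (1 : F) * PSL2.vv 1) ^ 2 = 1 := by
        rw [hmk, ← map_pow, ← map_one PSL2.mk, PSL2.mk_eq_mk]
        right
        rw [sq]
        show (1 : Matrix (Fin 2) (Fin 2) F) =
          -((PSL2.uSL (1 : F)).1 * (PSL2.vSL (1 : F)).1 * ((PSL2.uSL (1 : F)).1 * (PSL2.vSL (1 : F)).1))
        rw [PSL2.coe_uSL, PSL2.coe_vSL]
        ext i j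
        fin_cases i <;> fin_cases j <;> simp [Matrix.mul_apply, Fin.sum_univ_two] <;>
          first | linear_combination (2 : F) * h30 | linear_combination h30 | linear_combination (-1 : F) * h30 | linear_combination (-2 : F) * h30
      refine ⟨?_, fun h => ?_⟩
      · rw [hu, hv, ← Subgroup.coe_mul, ← Subgroup.coe_pow, ← map_mul, ← map_pow, h2, map_one, Subgroup.coe_one]
      · have h' : e.symm (PSL2.uu (1 : F) * PSL2.vv 1) = 1 := Subtype.ext (by rw [map_mul, Subgroup.coe_mul]; exact h)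
        have h'' := e.symm.map_eq_one_iff.mp h'
        rw [hmk, ← map_one PSL2.mk, PSL2.mk_eq_mk] at h''
        rcases h'' with h'' | h'' <;>
          · have := congrFun (congrFun h'' 0) 1
            simp [PSL2.coe_uSL, PSL2.coe_vSL, Matrix.mul_apply, Fin.sum_univ_two] at this
    have hcop : (orderOf u).Coprime (orderOf (u * v)) :=
      ((show Nat.Coprime 3 2 by norm_num).coprime_dvd_left (orderOf_dvd_of_pow_eq_one hu3)).coprime_dvd_right
        (orderOf_dvd_of_pow_eq_one huv2.1)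
    have hcomm : u * (u * v) = (u * v) * u := commute_of_mem_centralizer hCN hy1 hyu.symm
      ((show Commute y u from hyu).mul_right (show Commute y v from hyv)).eq.symm hcop
    have huv : Commute u v := mul_left_cancel (by rw [← mul_assoc u v u, ← hcomm])
    have hv3 : v ^ 3 = 1 := by
      rw [hv, ← Subgroup.coe_pow, ← map_pow]
      show ((e.symm ((PSL2.vHom (Multiplicative.ofAdd (1 : F))) ^ 3) : M) : G) = 1
      rw [← map_pow, ← ofAdd_nsmul, nsmul_one, CharP.cast_eq_zero, ofAdd_zero, map_one, map_one, Subgroup.coe_one]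
    have h3 : (u * v) ^ 3 = 1 := by rw [huv.mul_pow, hu3, hv3, one_mul]
    exact huv2.2 (by rw [pow_succ, huv2.1, one_mul] at h3; exact h3)
  have hdet : ∀ g : G, ∀ (a : GL (Fin 2) F) (σ : F ≃+* F), Φ g = PSL2.diagAut a * PSL2.fieldAut σ →
      GeneralLinearGroup.det a ∈ (powMonoidHom 2 : Fˣ →* Fˣ).range → g ∈ M := by
    intro g a σ hg hsq
    obtain ⟨z, hz⟩ := inner_of_det_sq a hsq
    exact hA g z σ (by rw [hg, hz])
  by_cases htop : M = ⊤
  · exact Or.inl htop
  right
  obtain ⟨a, ha⟩ : ∃ a : G, a ∉ M := by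
    by_contra h
    push Not at h
    exact htop ((Subgroup.eq_top_iff' M).mpr h)
  refine Subgroup.index_eq_two_iff_exists_notMem_and.mpr ⟨a, ha, fun b => or_iff_not_imp_right.mpr fun hb => ?_⟩
  obtain ⟨g₁, σ₁, h₁⟩ := PSL2.exists_diag_field 3 (Φ b)
  obtain ⟨g₂, σ₂, h₂⟩ := PSL2.exists_diag_field 3 (Φ a)
  refine hdet (b * a) (g₁ * GeneralLinearGroup.map σ₁.toRingHom g₂) (σ₂.trans σ₁) ?_ ?_
  · rw [map_mul, h₁, h₂, mul_assoc, ← mul_assoc (PSL2.fieldAut σ₁), PSL2.fieldAut_mul_diagAut, PSL2.fieldAut_trans,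
      map_mul]
    group
  · rw [map_mul]
    refine mul_mem_squares (fun h => hb (hdet b g₁ σ₁ h₁ h)) fun h => ha (hdet a g₂ σ₂ h₂ (map_mem_squares σ₁ ?_))
    convert h using 1
    ext
    simp [RingHom.map_det]

/-- Over a prime field with at least seven elements the socle is everything. -/
theorem prime_field (hCN : IsCNGroup G) (M : Subgroup G) [M.Normal] [IsSimpleGroup M]
    (hne : ∃ a b : M, a * b ≠ b * a) (e : M ≃* PSL) (hp : (Fintype.card F).Prime) (h7 : 7 ≤ Fintype.card F)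
    (hC : ∀ c : G, (∀ m ∈ M, c * m = m * c) → c = 1) : M = ⊤ := by
  classical
  set p := Fintype.card F with hpF
  haveI : Fact p.Prime := ⟨hp⟩
  haveI : CharP F p := charP_of_card_eq_prime_pow (f := 1) (by rw [pow_one])
  haveI : Finite PSL := Quotient.finite _
  set Φ := socleAut M e with hΦ
  have hinj : Function.Injective Φ := socleAut_injective M e hC
  have htriv : ∀ σ : F ≃+* F, σ = RingEquiv.refl F := by
    intro σ
    ext x
    obtain ⟨c, rfl⟩ := (ZMod.castHom_bijective (n := p) F hpF.symm).2 x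
    exact RingHom.congr_fun (RingHom.ext_zmod (σ.toRingHom.comp (ZMod.castHom dvd_rfl F)) (ZMod.castHom dvd_rfl F)) c
  have hdiag : ∀ g : G, ∃ a : GL (Fin 2) F, Φ g = PSL2.diagAut a := by
    intro g
    obtain ⟨a, σ, h⟩ := PSL2.exists_diag_field p (Φ g)
    exact ⟨a, by rw [h, htriv σ, PSL2.fieldAut_refl, mul_one]⟩
  by_contra htop
  obtain ⟨g₀, hg₀⟩ : ∃ g : G, g ∉ M := by
    by_contra h
    push Not at h
    exact htop ((Subgroup.eq_top_iff' M).mpr h)
  obtain ⟨a₀, ha₀⟩ := hdiag g₀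
  have hns : GeneralLinearGroup.det a₀ ∉ (powMonoidHom 2 : Fˣ →* Fˣ).range := by
    intro h
    obtain ⟨z, hz⟩ := inner_of_det_sq a₀ h
    refine hg₀ ?_
    rw [show g₀ = (e.symm z : G) from hinj (by rw [ha₀, hz, hΦ, socleAut_coe, e.apply_symm_apply])]
    exact (e.symm z).2
  have hsurj : ∀ a : GL (Fin 2) F, ∃ y : G, Φ y = PSL2.diagAut a := by
    intro a
    by_cases h : GeneralLinearGroup.det a ∈ (powMonoidHom 2 : Fˣ →* Fˣ).range
    · obtain ⟨z, hz⟩ := inner_of_det_sq a h
      exact ⟨(e.symm z : G), by rw [hz, hΦ, socleAut_coe, e.apply_symm_apply]⟩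
    · have h' : GeneralLinearGroup.det (a * a₀) ∈ (powMonoidHom 2 : Fˣ →* Fˣ).range := by
        rw [map_mul]; exact mul_mem_squares h hns
      obtain ⟨z, hz⟩ := inner_of_det_sq _ h'
      exact ⟨(e.symm z : G) * g₀⁻¹, by
        rw [map_mul, map_inv, ha₀, hΦ, socleAut_coe, e.apply_symm_apply, ← hz, map_mul, mul_inv_cancel_right]⟩
  -- an element of odd prime order other than the characteristic
  obtain ⟨r, hr, hr2, hrd⟩ : ∃ r, r.Prime ∧ r ≠ 2 ∧ r ∣ p ^ 2 - 1 := by
    by_contra hcon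
    push Not at hcon
    have hpow := Nat.eq_prime_pow_of_unique_prime_dvd (p := 2) (n := p ^ 2 - 1)
      (by have := Nat.pow_le_pow_left h7 2; omega) fun {d} hd hdd => by_contra fun h2 => hcon d hd h2 hdd
    have hsq : p ^ 2 - 1 = (p + 1) * (p - 1) := by simpa using Nat.sq_sub_sq p 1
    obtain ⟨i, -, hi⟩ := (Nat.dvd_prime_pow Nat.prime_two).mp (hpow ▸ hsq ▸ Dvd.intro _ rfl : p + 1 ∣ 2 ^ _)
    obtain ⟨j, -, hj⟩ := (Nat.dvd_prime_pow Nat.prime_two).mp (hpow ▸ hsq ▸ Dvd.intro_left _ rfl : p - 1 ∣ 2 ^ _)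
    have hi3 : 2 ≤ i := by
      by_contra hh
      have := Nat.pow_le_pow_right (show 0 < 2 by norm_num) (show i ≤ 1 by omega)
      omega
    have hj2 : 2 ≤ j := by
      by_contra hh
      have := Nat.pow_le_pow_right (show 0 < 2 by norm_num) (show j ≤ 1 by omega)
      omega
    obtain ⟨i, rfl⟩ := Nat.exists_eq_add_of_le hi3
    obtain ⟨j, rfl⟩ := Nat.exists_eq_add_of_le hj2
    rw [pow_add] at hi hj
    omega
  haveI := Fact.mk hr
  have hrp : r ≠ p := by
    intro h
    rw [← h] at hrd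
    have h1 : r ∣ r ^ 2 := dvd_pow_self r two_ne_zero
    have h2 : r ∣ 1 := by
      have := Nat.dvd_sub h1 hrd
      rwa [Nat.sub_sub_self (Nat.one_le_pow _ _ hr.pos)] at this
    exact hr.ne_one (Nat.dvd_one.mp h2)
  obtain ⟨A, hA⟩ := exists_prime_orderOf_dvd_card' (G := SL) r (by
    rw [SLCard.card_SL_two]; exact hrd.mul_left _)
  have hAr : A ^ r = 1 := by rw [← hA, pow_orderOf_eq_one]
  have hAno : ∀ n : ℕ, A ^ n = 1 → r ∣ n := fun n hn => hA ▸ orderOf_dvd_of_pow_eq_one hn
  have hodd : Odd r := hr.odd_of_ne_two hr2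
  have hns' : ∀ s : F, A.1 ≠ Matrix.scalar (Fin 2) s := by
    intro s hs
    have hdet : s * s = 1 := by
      have := A.2
      rw [hs, Matrix.scalar_apply, Matrix.det_diagonal, Fin.prod_univ_two] at this
      exact this
    have h2 := hAno 2 (Subtype.ext (show A.1 ^ 2 = (1 : Matrix (Fin 2) (Fin 2) F) by
      rw [sq, hs, ← map_mul, hdet, map_one]))
    exact hr2 ((Nat.prime_dvd_prime_iff_eq hr Nat.prime_two).mp h2)
  have h20 : (2 : F) ≠ 0 := by
    intro h2
    have h2' : ((2 : ℕ) : F) = 0 := by exact_mod_cast h2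
    rw [CharP.cast_eq_zero_iff F p] at h2'
    have := Nat.le_of_dvd (by norm_num) h2'
    omega
  set s : F := (A.1 0 0 + A.1 1 1) / 2 with hs
  have hts : A.1 0 0 + A.1 1 1 = 2 * s := by rw [hs]; field_simp
  have hd : A.1 0 0 * A.1 1 1 - A.1 0 1 * A.1 1 0 = 1 := by rw [← Matrix.det_fin_two]; exact A.2
  set N : Matrix (Fin 2) (Fin 2) F := A.1 - Matrix.scalar (Fin 2) s with hN
  have hNN : N * N = Matrix.scalar (Fin 2) (s * s - 1) := by
    ext i j
    fin_cases i <;> fin_cases j <;>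
      simp [hN, Matrix.mul_apply, Fin.sum_univ_two, Matrix.diagonal] <;>
      first
        | linear_combination A.1 0 0 * hts - hd
        | linear_combination A.1 1 1 * hts - hd
        | linear_combination A.1 0 1 * hts
        | linear_combination A.1 1 0 * hts
  have hs1 : s * s - 1 ≠ 0 := by
    intro h0
    have hX : A.1 * A.1 = 1 + (2 * s) • N := by
      rw [show A.1 * A.1 = N * N + (2 * s) • N + Matrix.scalar (Fin 2) (s * s) by
        ext i j
        fin_cases i <;> fin_cases j <;> simp [hN, Matrix.mul_apply, Fin.sum_univ_two, Matrix.diagonal] <;> ring,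
        hNN, h0, sub_eq_zero.mp h0, map_zero, zero_add, map_one, add_comm]
    have hX2 : ((2 * s) • N) * ((2 * s) • N) = 0 := by
      rw [Matrix.smul_mul, Matrix.mul_smul, hNN, h0, map_zero, smul_zero, smul_zero]
    have hn : ∀ n : ℕ, (A.1 * A.1) ^ n = 1 + ((n : F) • ((2 * s) • N)) := by
      intro n
      induction n with
      | zero => simp
      | succ n ih =>
        rw [pow_succ, ih, hX, add_mul, one_mul, mul_add, mul_one, Matrix.smul_mul, hX2, smul_zero, add_zero,
          Nat.cast_succ, add_smul, one_smul]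
        abel
    have h2p := hAno (2 * p) (Subtype.ext (show A.1 ^ (2 * p) = (1 : Matrix (Fin 2) (Fin 2) F) by
      rw [pow_mul, sq, hn p, CharP.cast_eq_zero, zero_smul, add_zero]))
    rcases hr.dvd_mul.mp h2p with h | h
    · exact hr2 ((Nat.prime_dvd_prime_iff_eq hr Nat.prime_two).mp h)
    · exact hrp ((Nat.prime_dvd_prime_iff_eq hr hp).mp h)
  have hNdet : N.det ≠ 0 := by
    intro h0
    have := congrArg Matrix.det hNN
    rw [Matrix.det_mul, h0, zero_mul, Matrix.scalar_apply, Matrix.det_diagonal] at this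
    simp only [Fin.prod_univ_two] at this
    exact hs1 (mul_self_eq_zero.mp this.symm)
  set gl := GeneralLinearGroup.mkOfDetNeZero N hNdet with hgl
  obtain ⟨y, hy⟩ := hsurj gl
  have hglA : gl.1 * A.1 = A.1 * gl.1 := by
    show N * A.1 = A.1 * N
    rw [hN, sub_mul, mul_sub, (Matrix.scalar_commute s (fun r' => Commute.all s r') A.1).eq]
  have hy2 : y * y = 1 := hinj (by
    rw [map_mul, hy, ← map_mul, map_one]
    exact PSL2.diagAut_scalar _ (s * s - 1) (by rw [Units.val_mul]; exact hNN))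
  have hy1 : y ≠ 1 := by
    intro h
    rw [h, map_one] at hy
    obtain ⟨-, c, hc⟩ := PSL2.scalar_of_fix gl (RingEquiv.refl F) (by rw [← hy, PSL2.fieldAut_refl])
    refine hns' (c + s) ?_
    rw [map_add, ← hc]
    show A.1 = N + _
    rw [hN, sub_add_cancel]
  set x : M := e.symm (PSL2.mk A) with hx
  have hxr : orderOf x = r := by
    rw [hx, MulEquiv.orderOf_eq]
    refine orderOf_eq_prime (by rw [← map_pow, hAr, map_one]) fun h => ?_
    rw [← map_one PSL2.mk, eq_comm, PSL2.mk_eq_mk] at h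
    rcases h with h | h
    · exact hns' 1 (h.trans (map_one (Matrix.scalar (Fin 2))).symm)
    · exact hns' (-1) (h.trans (by rw [map_neg, map_one]; rfl))
  have hyx : y * (x : G) = (x : G) * y := commute_of_socleAut_fix M e (by
    show Φ y _ = _
    rw [hy, PSL2.diagAut_apply]
    congr 1
    apply Subtype.ext
    rw [PSL2.coe_conjSL, hglA, Matrix.mul_assoc, ← Units.val_mul, mul_inv_cancel, Units.val_one, Matrix.mul_one])
  exact hy1 (no_two_commute hCN M hne (k := 1) (by rw [pow_one, sq]; exact hy2) x.2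
    (by rw [Subgroup.orderOf_coe, hxr]; exact hodd)
    (fun h => hr.ne_one (by rw [← hxr, ← Subgroup.orderOf_coe, h, orderOf_one])) hyx)

end CfsgLib.CITExt
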